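import Mathlib

/-!
# The `F`-structure on `Q/R` (types (beta) and (gamma))

`Q` of class 2 with `Q' , Φ(Q) ≤ R = Z(Q)`, `R ≅ F` (coordinate `ρ`), `K` normalises `Q` and centralises `R`, `Q` is
generated by the `K`-conjugates of `E`, and the maps `[x, ·]`, `x ∈ E`, are closed under multiplication by
elements of `F`.  Then `Q/R` is an `F`-space `M` (the space of all functions `ρ [x, ·]`), with the quadratic form
`s = ρ (x²)` with polar form `f = ρ [x, y]`, and `K` acts `F`-linearly as a group of isometries.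
-/

set_option autoImplicit false

namespace Cfsg.Agent.Omega.NOne.FStr

open scoped commutatorElement

/-- The input without the generation hypothesis. -/
structure Pre (F : Type*) [Field F] (G : Type*) [Group G] where
  K : Subgroup G
  Q : Subgroup G
  R : Subgroup G
  E : Subgroup G
  ρ : G → F
  two : (2 : F) = 0
  R_le : R ≤ Q
  Q_le : Q ≤ K
  E_le : E ≤ Q
  norm : ∀ k ∈ K, ∀ x ∈ Q, k * x * k⁻¹ ∈ Q
  cent : ∀ k ∈ K, ∀ r ∈ R, k * r = r * k
  comm : ∀ x ∈ Q, ∀ y ∈ Q, ⁅x, y⁆ ∈ R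
  sq : ∀ x ∈ Q, x * x ∈ R
  R_sq : ∀ r ∈ R, r * r = 1
  center : ∀ x ∈ Q, (∀ y ∈ Q, x * y = y * x) → x ∈ R
  ρ_mul : ∀ r ∈ R, ∀ r' ∈ R, ρ (r * r') = ρ r + ρ r'
  ρ_inj : ∀ r ∈ R, ρ r = 0 → r = 1
  E_sq : ∀ x ∈ E, x * x = 1
  sc : ∀ a : F, ∀ x ∈ E, ∃ y ∈ E, ∀ z ∈ Q, ρ ⁅y, z⁆ = a * ρ ⁅x, z⁆

/-- The input. -/
structure Inp (F : Type*) [Field F] (G : Type*) [Group G] extends Pre F G where
  gen : Q ≤ Subgroup.closure {y | ∃ k ∈ K, ∃ x ∈ E, y = k * x * k⁻¹}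

namespace Pre

variable {F : Type*} [Field F] {G : Type*} [Group G] (D : Pre F G)

include D in
theorem dbl (a : F) : a + a = 0 := by
  rw [← two_mul, D.two, zero_mul]

theorem ρ_one : D.ρ 1 = 0 := by
  have h := D.ρ_mul 1 D.R.one_mem 1 D.R.one_mem
  rw [mul_one] at h
  linear_combination -h

theorem R_K {r : G} (hr : r ∈ D.R) {k : G} (hk : k ∈ D.K) : k * r * k⁻¹ = r := by
  rw [D.cent k hk r hr, mul_inv_cancel_right]

/-- `R` is central in `Q` -/
theorem R_comm {r : G} (hr : r ∈ D.R) {x : G} (hx : x ∈ D.Q) : x * r = r * x := D.cent x (D.Q_le hx) r hr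

theorem inv_R {r : G} (hr : r ∈ D.R) : r⁻¹ = r := by
  rw [inv_eq_iff_mul_eq_one]; exact D.R_sq r hr

theorem comm_mul_left {x y z : G} (hx : x ∈ D.Q) (hy : y ∈ D.Q) (hz : z ∈ D.Q) :
    ⁅x * y, z⁆ = ⁅x, z⁆ * ⁅y, z⁆ := by
  have h1 : ⁅x * y, z⁆ = x * ⁅y, z⁆ * x⁻¹ * ⁅x, z⁆ := by
    simp only [commutatorElement_def]; group
  have h2 := D.comm y hy z hz
  have h3 := D.comm x hx z hz
  rw [h1, D.R_K h2 (D.Q_le hx), D.R_comm h3 (D.R_le h2)]

theorem comm_symm {x y : G} (hx : x ∈ D.Q) (hy : y ∈ D.Q) : ⁅x, y⁆ = ⁅y, x⁆ := by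
  rw [← commutatorElement_inv, D.inv_R (D.comm y hy x hx)]

theorem comm_mul_right {x y z : G} (hx : x ∈ D.Q) (hy : y ∈ D.Q) (hz : z ∈ D.Q) :
    ⁅x, y * z⁆ = ⁅x, y⁆ * ⁅x, z⁆ := by
  rw [D.comm_symm hx (D.Q.mul_mem hy hz), D.comm_mul_left hy hz hx, D.comm_symm hx hy, D.comm_symm hx hz]

/-- the function `ρ [x, ·]` -/
def fn (x : G) : D.Q → F := fun z => D.ρ ⁅x, (z : G)⁆

theorem fn_mul {x y : G} (hx : x ∈ D.Q) (hy : y ∈ D.Q) : D.fn (x * y) = D.fn x + D.fn y := by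
  funext z
  change D.ρ _ = D.ρ _ + D.ρ _
  rw [D.comm_mul_left hx hy z.2, D.ρ_mul _ (D.comm x hx z z.2) _ (D.comm y hy z z.2)]

theorem fn_one : D.fn 1 = 0 := by
  funext z
  change D.ρ _ = 0
  rw [commutatorElement_one_left, D.ρ_one]

theorem fn_inv {x : G} (hx : x ∈ D.Q) : D.fn x⁻¹ = D.fn x := by
  have h := D.fn_mul hx (D.Q.inv_mem hx)
  rw [mul_inv_cancel, D.fn_one] at h
  funext z
  have h1 := congrFun h z
  simp only [Pi.zero_apply, Pi.add_apply] at h1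
  linear_combination -h1 - D.fn x z * D.two

theorem fn_eq_zero {x : G} (hx : x ∈ D.Q) : D.fn x = 0 ↔ x ∈ D.R := by
  constructor
  · intro h
    refine D.center x hx fun y hy => ?_
    have h1 : D.ρ ⁅x, y⁆ = 0 := congrFun h ⟨y, hy⟩
    have h2 := D.ρ_inj _ (D.comm x hx y hy) h1
    rwa [commutatorElement_eq_one_iff_mul_comm] at h2
  · intro h
    funext z
    change D.ρ ⁅x, (z : G)⁆ = 0
    rw [commutatorElement_eq_one_iff_mul_comm.2 (D.R_comm h z.2).symm, D.ρ_one]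

/-- conjugation by `k⁻¹` on `Q` -/
theorem conj_mem {k : G} (hk : k ∈ D.K) (z : D.Q) : k⁻¹ * (z : G) * k ∈ D.Q := by
  have := D.norm k⁻¹ (D.K.inv_mem hk) z z.2
  rwa [inv_inv] at this

theorem fn_conj {k x : G} (hk : k ∈ D.K) (hx : x ∈ D.Q) (z : D.Q) :
    D.fn (k * x * k⁻¹) z = D.fn x ⟨k⁻¹ * z * k, by
      have := D.norm k⁻¹ (D.K.inv_mem hk) z z.2
      rwa [inv_inv] at this⟩ := by
  change D.ρ _ = D.ρ _
  congr 1
  have h1 : k⁻¹ * (z : G) * k ∈ D.Q := by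
    have := D.norm k⁻¹ (D.K.inv_mem hk) z z.2
    rwa [inv_inv] at this
  rw [← D.R_K (D.comm x hx _ h1) hk]
  simp only [commutatorElement_def]
  group

/-- the subgroup generated by the `K`-conjugates of `E` -/
def Y : Subgroup G := Subgroup.closure {y | ∃ k ∈ D.K, ∃ x ∈ D.E, y = k * x * k⁻¹}

theorem Y_le : D.Y ≤ D.Q := by
  rw [Y, Subgroup.closure_le]
  rintro _ ⟨k, hk, e, he, rfl⟩
  exact D.norm k hk e (D.E_le he)

theorem conj_mem_Y {k : G} (hk : k ∈ D.K) {x : G} (hx : x ∈ D.Y) : k * x * k⁻¹ ∈ D.Y := by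
  have h : D.Y ≤ D.Y.comap (MulAut.conj k).toMonoidHom := by
    conv_lhs => rw [Y]
    rw [Subgroup.closure_le]
    rintro _ ⟨l, hl, e, he, rfl⟩
    refine Subgroup.subset_closure ⟨k * l, D.K.mul_mem hk hl, e, he, ?_⟩
    simp only [MulEquiv.coe_toMonoidHom, MulAut.conj_apply]
    group
  exact h hx

/-- closure of the functions under scalars -/
theorem fn_smul_Y (a : F) {x : G} (hx : x ∈ D.Y) : ∃ y ∈ D.Y, D.fn y = a • D.fn x := by
  have h : ∀ x ∈ Subgroup.closure {y | ∃ k ∈ D.K, ∃ x ∈ D.E, y = k * x * k⁻¹},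
      x ∈ D.Q ∧ ∃ y ∈ D.Y, D.fn y = a • D.fn x := by
    intro x hx
    induction hx using Subgroup.closure_induction with
    | mem x hx =>
      obtain ⟨k, hk, e, he, rfl⟩ := hx
      refine ⟨D.norm k hk e (D.E_le he), ?_⟩
      obtain ⟨y, hy, h1⟩ := D.sc a e he
      refine ⟨k * y * k⁻¹, Subgroup.subset_closure ⟨k, hk, y, hy, rfl⟩, ?_⟩
      funext z
      rw [D.fn_conj hk (D.E_le hy), Pi.smul_apply, D.fn_conj hk (D.E_le he)]
      exact h1 _ (D.conj_mem hk z)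
    | one => exact ⟨D.Q.one_mem, 1, D.Y.one_mem, by rw [D.fn_one, smul_zero]⟩
    | mul x x' _ _ h1 h2 =>
      obtain ⟨h1, y, hy, h3⟩ := h1
      obtain ⟨h2, y', hy', h4⟩ := h2
      exact ⟨D.Q.mul_mem h1 h2, y * y', D.Y.mul_mem hy hy', by
        rw [D.fn_mul (D.Y_le hy) (D.Y_le hy'), D.fn_mul h1 h2, h3, h4, smul_add]⟩
    | inv x _ h1 =>
      obtain ⟨h1, y, hy, h3⟩ := h1
      exact ⟨D.Q.inv_mem h1, y, hy, by rw [D.fn_inv h1, h3]⟩
  exact (h x hx).2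

/-- the `F`-space of the functions of the elements of `Y` -/
def W : Submodule F (D.Q → F) where
  carrier := {m | ∃ x ∈ D.Y, D.fn x = m}
  add_mem' := by
    rintro _ _ ⟨x, hx, rfl⟩ ⟨y, hy, rfl⟩
    exact ⟨x * y, D.Y.mul_mem hx hy, D.fn_mul (D.Y_le hx) (D.Y_le hy)⟩
  zero_mem' := ⟨1, D.Y.one_mem, D.fn_one⟩
  smul_mem' := by
    rintro a _ ⟨x, hx, rfl⟩
    exact D.fn_smul_Y a hx

/-- the hom `Y → W` -/
def homY : D.Y →* Multiplicative D.W where
  toFun x := Multiplicative.ofAdd ⟨D.fn x, x, x.2, rfl⟩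
  map_one' := congrArg Multiplicative.ofAdd (Subtype.ext D.fn_one)
  map_mul' x y := congrArg Multiplicative.ofAdd (Subtype.ext (D.fn_mul (D.Y_le x.2) (D.Y_le y.2)))

theorem homY_surj : Function.Surjective D.homY := by
  rintro m
  obtain ⟨m', hm'⟩ := Multiplicative.ofAdd.surjective m
  obtain ⟨w, x, hx, h⟩ := m'
  refine ⟨⟨x, hx⟩, ?_⟩
  rw [← hm']
  exact congrArg Multiplicative.ofAdd (Subtype.ext h)

theorem homY_ker {x : D.Y} : x ∈ D.homY.ker ↔ (x : G) ∈ D.R := by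
  rw [MonoidHom.mem_ker, ← D.fn_eq_zero (D.Y_le x.2)]
  constructor
  · intro h
    exact congrArg Subtype.val (Multiplicative.ofAdd.injective h)
  · intro h
    exact congrArg Multiplicative.ofAdd (Subtype.ext h)

/-- evaluation `Q → W*` -/
def homQ : D.Q →* Multiplicative (Module.Dual F D.W) where
  toFun y := Multiplicative.ofAdd ((LinearMap.proj y).comp D.W.subtype)
  map_one' := by
    refine congrArg Multiplicative.ofAdd (LinearMap.ext ?_)
    rintro ⟨w, x, hx, rfl⟩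
    change D.ρ ⁅x, ((1 : D.Q) : G)⁆ = 0
    rw [OneMemClass.coe_one, commutatorElement_one_right, D.ρ_one]
  map_mul' y z := by
    refine congrArg Multiplicative.ofAdd (LinearMap.ext ?_)
    rintro ⟨w, x, hx, rfl⟩
    change D.ρ ⁅x, ((y * z : D.Q) : G)⁆ = D.ρ ⁅x, (y : G)⁆ + D.ρ ⁅x, (z : G)⁆
    have hx' := D.Y_le hx
    rw [Subgroup.coe_mul, D.comm_mul_right hx' y.2 z.2, D.ρ_mul _ (D.comm x hx' y y.2) _ (D.comm x hx' z z.2)]

theorem homQ_ker {y : D.Q} (h : y ∈ D.homQ.ker) : ∀ x ∈ D.Y, (y : G) * x = x * y := by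
  intro x hx
  rw [MonoidHom.mem_ker] at h
  have h1 := LinearMap.congr_fun (Multiplicative.ofAdd.injective h) ⟨D.fn x, x, hx, rfl⟩
  have h2 : D.ρ ⁅x, (y : G)⁆ = 0 := h1
  have h3 := D.ρ_inj _ (D.comm x (D.Y_le hx) y y.2) h2
  rw [commutatorElement_eq_one_iff_mul_comm] at h3
  exact h3.symm

/-- **Generation**: if `C_Q(Y) = R ≤ E`, then `Q = Y`. -/
theorem gen_of [Finite G] [Finite F] (hRE : D.R ≤ D.E)
    (h : ∀ z ∈ D.Q, (∀ y ∈ D.Y, z * y = y * z) → z ∈ D.R) : D.Q ≤ D.Y := by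
  have hRY : D.R ≤ D.Y := by
    intro r hr
    exact Subgroup.subset_closure ⟨1, D.K.one_mem, r, hRE hr, by group⟩
  have hfin : Finite D.W := inferInstance
  have hfin' : Finite (Module.Dual F D.W) :=
    Finite.of_injective (fun f : Module.Dual F D.W => (f : D.W → F)) DFunLike.coe_injective
  have c1 : Nat.card (Module.Dual F D.W) = Nat.card D.W := by
    have := Module.Finite.of_finite (R := F) (M := D.W)
    have := Fintype.ofFinite F
    have := Fintype.ofFinite D.W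
    have e := (Module.Free.chooseBasis F D.W).toDualEquiv
    exact Nat.card_congr e.symm.toEquiv
  have k1 : Nat.card D.homQ.ker ≤ Nat.card D.R := by
    refine Nat.card_le_card_of_injective (fun x => (⟨(x : D.Q), h _ (x : D.Q).2 (D.homQ_ker x.2)⟩ : D.R)) ?_
    intro x y hxy
    have h1 : ((x : D.Q) : G) = ((y : D.Q) : G) := congrArg (fun r : D.R => (r : G)) hxy
    exact Subtype.ext (Subtype.ext h1)
  have k2 : Nat.card D.homY.ker = Nat.card D.R := by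
    refine Nat.card_congr ⟨fun x => ⟨(x : D.Y), D.homY_ker.1 x.2⟩, fun r => ⟨⟨r, hRY r.2⟩, D.homY_ker.2 r.2⟩,
      fun x => rfl, fun r => rfl⟩
  have c2 : Nat.card D.Q ≤ Nat.card D.W * Nat.card D.R := by
    rw [← D.homQ.ker.index_mul_card, Subgroup.index_ker]
    refine Nat.mul_le_mul ?_ k1
    rw [← c1]
    exact Nat.card_le_card_of_injective (fun x : D.homQ.range => Multiplicative.toAdd (x : Multiplicative _))
      fun x y hxy => Subtype.ext (Multiplicative.toAdd.injective hxy)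
  have c3 : Nat.card D.Y = Nat.card D.W * Nat.card D.R := by
    rw [← D.homY.ker.index_mul_card, Subgroup.index_ker, k2]
    congr 1
    rw [MonoidHom.range_eq_top.2 D.homY_surj, Subgroup.card_top]
    exact Nat.card_congr Multiplicative.toAdd
  have c4 : Nat.card D.Q ≤ Nat.card D.Y := by rw [c3]; exact c2
  exact (Subgroup.eq_of_le_of_card_ge D.Y_le c4).ge

end Pre

namespace Inp

variable {F : Type*} [Field F] {G : Type*} [Group G] (D : Inp F G)

theorem fn_smul (a : F) {x : G} (hx : x ∈ D.Q) : ∃ y ∈ D.Q, D.fn y = a • D.fn x := by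
  obtain ⟨y, hy, h⟩ := D.fn_smul_Y a (D.gen hx)
  exact ⟨y, D.Y_le hy, h⟩

/-- **The `F`-space `M = Q/R`.** -/
def M : Submodule F (D.Q → F) where
  carrier := {m | ∃ x ∈ D.Q, D.fn x = m}
  add_mem' := by
    rintro _ _ ⟨x, hx, rfl⟩ ⟨y, hy, rfl⟩
    exact ⟨x * y, D.Q.mul_mem hx hy, D.fn_mul hx hy⟩
  zero_mem' := ⟨1, D.Q.one_mem, D.fn_one⟩
  smul_mem' := by
    rintro a _ ⟨x, hx, rfl⟩
    exact D.fn_smul a hx

/-- the projection `Q → M` -/
def π (x : G) (hx : x ∈ D.Q) : D.M := ⟨D.fn x, x, hx, rfl⟩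

theorem π_surj (m : D.M) : ∃ x, ∃ hx : x ∈ D.Q, D.π x hx = m := by
  obtain ⟨m, x, hx, h⟩ := m
  exact ⟨x, hx, Subtype.ext h⟩

theorem π_mul {x y : G} (hx : x ∈ D.Q) (hy : y ∈ D.Q) :
    D.π (x * y) (D.Q.mul_mem hx hy) = D.π x hx + D.π y hy := Subtype.ext (D.fn_mul hx hy)

theorem π_eq_zero {x : G} (hx : x ∈ D.Q) : D.π x hx = 0 ↔ x ∈ D.R := by
  rw [← D.fn_eq_zero hx, ← Submodule.coe_eq_zero]
  rfl

theorem π_inv {x : G} (hx : x ∈ D.Q) : D.π x⁻¹ (D.Q.inv_mem hx) = D.π x hx := Subtype.ext (D.fn_inv hx)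

theorem π_eq_iff {x y : G} (hx : x ∈ D.Q) (hy : y ∈ D.Q) : D.π x hx = D.π y hy ↔ x⁻¹ * y ∈ D.R := by
  rw [← D.π_eq_zero (D.Q.mul_mem (D.Q.inv_mem hx) hy), D.π_mul (D.Q.inv_mem hx) hy, D.π_inv hx]
  constructor
  · intro h
    rw [h, ← two_smul F, D.two, zero_smul]
  · intro h
    rw [← sub_eq_zero, sub_eq_add_neg]
    rw [add_eq_zero_iff_eq_neg] at h
    rw [h]
    have : D.π y hy + D.π y hy = 0 := by rw [← two_smul F, D.two, zero_smul]
    rw [← neg_add, this, neg_zero]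

theorem π_apply {x : G} (hx : x ∈ D.Q) (z : D.Q) : (D.π x hx : D.Q → F) z = D.ρ ⁅x, (z : G)⁆ := rfl

theorem symm' {x y : G} (hx : x ∈ D.Q) (hy : y ∈ D.Q) :
    (D.π x hx : D.Q → F) ⟨y, hy⟩ = (D.π y hy : D.Q → F) ⟨x, hx⟩ := by
  rw [D.π_apply, D.π_apply]
  exact congrArg D.ρ (D.comm_symm hx hy)

/-- a representative in `Q` of an element of `M` -/
noncomputable def rep (m : D.M) : D.Q := ⟨(D.π_surj m).choose, (D.π_surj m).choose_spec.choose⟩

theorem π_rep (m : D.M) : D.π (D.rep m) (D.rep m).2 = m := (D.π_surj m).choose_spec.choose_spec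

/-- evaluation depends on the class only -/
theorem eval_eq (m : D.M) {y : G} (hy : y ∈ D.Q) :
    (m : D.Q → F) (D.rep (D.π y hy)) = (m : D.Q → F) ⟨y, hy⟩ := by
  obtain ⟨x, hx, rfl⟩ := D.π_surj m
  rw [show D.rep (D.π y hy) = ⟨(D.rep (D.π y hy) : G), (D.rep (D.π y hy)).2⟩ from rfl,
    D.symm' hx (D.rep (D.π y hy)).2, D.π_rep, D.symm']

/-- **The polar form.** -/
noncomputable def f : D.M →ₗ[F] D.M →ₗ[F] F :=
  LinearMap.mk₂ F (fun m n => (m : D.Q → F) (D.rep n)) (fun _ _ _ => rfl) (fun _ _ _ => rfl)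
    (fun m n n' => by
      obtain ⟨x, hx, rfl⟩ := D.π_surj m
      obtain ⟨y, hy, rfl⟩ := D.π_surj n
      obtain ⟨y', hy', rfl⟩ := D.π_surj n'
      rw [← D.π_mul hy hy', D.eval_eq, D.eval_eq, D.eval_eq, D.symm', D.symm' hx hy, D.symm' hx hy', D.π_mul hy hy']
      rfl)
    (fun a m n => by
      obtain ⟨x, hx, rfl⟩ := D.π_surj m
      obtain ⟨z, hz, h⟩ := D.π_surj (a • n)
      obtain ⟨y, hy, rfl⟩ := D.π_surj n
      rw [← h, D.eval_eq, D.eval_eq, D.symm' hx hz, h, D.symm' hx hy]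
      rfl)

theorem f_π {x y : G} (hx : x ∈ D.Q) (hy : y ∈ D.Q) : D.f (D.π x hx) (D.π y hy) = D.ρ ⁅x, y⁆ :=
  D.eval_eq (D.π x hx) hy

theorem nondeg (m : D.M) (h : ∀ m', D.f m m' = 0) : m = 0 := by
  ext z
  have h1 := h (D.π z z.2)
  obtain ⟨x, hx, rfl⟩ := D.π_surj m
  rw [D.f_π hx z.2] at h1
  exact h1

/-- **The quadratic form.** -/
noncomputable def s (m : D.M) : F := D.ρ ((D.rep m : G) * D.rep m)

theorem s_π {x : G} (hx : x ∈ D.Q) : D.s (D.π x hx) = D.ρ (x * x) := by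
  have h1 := (D.π_eq_iff hx (D.rep (D.π x hx)).2).1 (D.π_rep _).symm
  change D.ρ ((D.rep (D.π x hx) : G) * D.rep (D.π x hx)) = _
  congr 1
  set y : G := (D.rep (D.π x hx) : G) with hy
  have h2 : y = x * (x⁻¹ * y) := by group
  have h3 := D.R_comm h1 hx
  rw [h2]
  set r := x⁻¹ * y
  calc x * r * (x * r) = x * (r * x) * r := by group
    _ = x * (x * r) * r := by rw [h3]
    _ = x * x * (r * r) := by group
    _ = x * x := by rw [D.R_sq r h1, mul_one]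

theorem s_add (m n : D.M) : D.s (m + n) = D.s m + D.s n + D.f m n := by
  obtain ⟨x, hx, rfl⟩ := D.π_surj m
  obtain ⟨y, hy, rfl⟩ := D.π_surj n
  rw [← D.π_mul hx hy, D.s_π, D.s_π, D.s_π, D.f_π]
  have h1 := D.comm x hx y hy
  have h2 := D.sq x hx
  have h3 := D.sq y hy
  have h4 : x * y * (x * y) = x * x * (y * y) * ⁅x, y⁆ := by
    have e1 : y * x = x * y * ⁅x, y⁆ := by
      have : y * x = ⁅y, x⁆ * (x * y) := by simp only [commutatorElement_def]; group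
      rw [this, D.comm_symm hy hx, D.R_comm h1 (D.Q.mul_mem hx hy)]
    calc x * y * (x * y) = x * (y * x) * y := by group
      _ = x * (x * y * ⁅x, y⁆) * y := by rw [e1]
      _ = x * x * y * (⁅x, y⁆ * y) := by group
      _ = x * x * y * (y * ⁅x, y⁆) := by rw [D.R_comm h1 hy]
      _ = x * x * (y * y) * ⁅x, y⁆ := by group
  rw [h4, D.ρ_mul _ (D.R.mul_mem h2 h3) _ h1, D.ρ_mul _ h2 _ h3]

theorem act_mem (k : D.K) (m : D.M) :
    (fun z : D.Q => (m : D.Q → F) ⟨k⁻¹ * (z : G) * k, D.conj_mem k.2 z⟩) ∈ D.M := by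
  obtain ⟨x, hx, rfl⟩ := D.π_surj m
  refine ⟨k * x * k⁻¹, D.norm k k.2 x hx, ?_⟩
  funext z
  exact D.fn_conj k.2 hx z

/-- the action of `K` as linear maps -/
def actL (k : D.K) : D.M →ₗ[F] D.M where
  toFun m := ⟨fun z => (m : D.Q → F) ⟨k⁻¹ * (z : G) * k, D.conj_mem k.2 z⟩, D.act_mem k m⟩
  map_add' _ _ := rfl
  map_smul' _ _ := rfl

theorem actL_π (k : D.K) {x : G} (hx : x ∈ D.Q) :
    D.actL k (D.π x hx) = D.π (k * x * (k : G)⁻¹) (D.norm k k.2 x hx) := by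
  refine Subtype.ext ?_
  funext z
  exact (D.fn_conj k.2 hx z).symm

theorem actL_mul (k l : D.K) (m : D.M) : D.actL (k * l) m = D.actL k (D.actL l m) := by
  obtain ⟨x, hx, rfl⟩ := D.π_surj m
  rw [D.actL_π, D.actL_π, D.actL_π]
  refine Subtype.ext (congrArg D.fn ?_)
  push_cast
  group

theorem actL_one (m : D.M) : D.actL 1 m = m := by
  obtain ⟨x, hx, rfl⟩ := D.π_surj m
  rw [D.actL_π]
  refine Subtype.ext (congrArg D.fn ?_)
  simp

/-- **The action of `K` on `M`.** -/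
def act : D.K →* (D.M ≃ₗ[F] D.M) where
  toFun k := LinearEquiv.ofLinearMap (D.actL k) (D.actL k⁻¹)
    (LinearMap.ext fun m => by
      rw [LinearMap.comp_apply, ← D.actL_mul, mul_inv_cancel, D.actL_one, LinearMap.id_apply])
    (LinearMap.ext fun m => by
      rw [LinearMap.comp_apply, ← D.actL_mul, inv_mul_cancel, D.actL_one, LinearMap.id_apply])
  map_one' := LinearEquiv.ext fun m => D.actL_one m
  map_mul' k l := LinearEquiv.ext fun m => D.actL_mul k l m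

theorem act_π (k : D.K) {x : G} (hx : x ∈ D.Q) :
    D.act k (D.π x hx) = D.π (k * x * (k : G)⁻¹) (D.norm k k.2 x hx) := D.actL_π k hx

theorem isom (k : D.K) (m : D.M) : D.s (D.act k m) = D.s m := by
  obtain ⟨x, hx, rfl⟩ := D.π_surj m
  rw [D.act_π, D.s_π, D.s_π]
  congr 1
  rw [show (k : G) * x * (k : G)⁻¹ * (k * x * (k : G)⁻¹) = k * (x * x) * (k : G)⁻¹ by group,
    D.R_K (D.sq x hx) k.2]

/-- the kernel of the action -/
theorem act_eq_one {k : D.K} : D.act k = 1 ↔ ∀ x ∈ D.Q, ⁅(k : G), x⁆ ∈ D.R := by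
  constructor
  · intro h x hx
    have h1 : D.act k (D.π x hx) = D.π x hx := by rw [h]; rfl
    rw [D.act_π, D.π_eq_iff] at h1
    have h2 := D.R.inv_mem h1
    have h3 : ((k * x * (k : G)⁻¹)⁻¹ * x)⁻¹ = x⁻¹ * ⁅(k : G), x⁆ * x := by
      simp only [commutatorElement_def]; group
    rw [h3] at h2
    have h4 := D.R_comm h2 hx
    have h5 : ⁅(k : G), x⁆ = x⁻¹ * ⁅(k : G), x⁆ * x := by
      have : x * (x⁻¹ * ⁅(k : G), x⁆ * x) = ⁅(k : G), x⁆ * x := by group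
      rw [this] at h4
      exact mul_right_cancel h4
    rw [h5]
    exact h2
  · intro h
    refine LinearEquiv.ext fun m => ?_
    obtain ⟨x, hx, rfl⟩ := D.π_surj m
    change _ = D.π x hx
    rw [D.act_π, D.π_eq_iff]
    have h1 := h x hx
    have h3 : (k * x * (k : G)⁻¹)⁻¹ * x = x⁻¹ * ⁅(k : G), x⁆⁻¹ * x := by
      simp only [commutatorElement_def]; group
    rw [h3]
    have h4 := D.R_comm (D.R.inv_mem h1) (D.Q.inv_mem hx)
    rw [h4, inv_mul_cancel_right]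
    exact D.R.inv_mem h1

/-- `s (a m) = a² s m` -/
theorem s_smul (a : F) (m : D.M) : D.s (a • m) = a ^ 2 * D.s m := by
  obtain ⟨x, hx, rfl⟩ := D.π_surj m
  have key : ∀ x ∈ Subgroup.closure {y | ∃ k ∈ D.K, ∃ x ∈ D.E, y = k * x * k⁻¹},
      ∃ hx : x ∈ D.Q, D.s (a • D.π x hx) = a ^ 2 * D.s (D.π x hx) := by
    intro x hx
    induction hx using Subgroup.closure_induction with
    | mem x hx =>
      obtain ⟨k, hk, e, he, rfl⟩ := hx
      refine ⟨D.norm k hk e (D.E_le he), ?_⟩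
      obtain ⟨y, hy, h1⟩ := D.sc a e he
      have h2 : a • D.π e (D.E_le he) = D.π y (D.E_le hy) := by
        refine Subtype.ext ?_
        funext z
        exact (h1 _ z.2).symm
      have h3 := D.act_π ⟨k, hk⟩ (D.E_le he)
      change D.act ⟨k, hk⟩ (D.π e (D.E_le he)) = D.π (k * e * k⁻¹) _ at h3
      rw [← h3, ← map_smul, D.isom, D.isom, h2, D.s_π, D.s_π, D.E_sq y hy, D.E_sq e he, D.ρ_one, mul_zero]
    | one =>
      refine ⟨D.Q.one_mem, ?_⟩
      have h1 : D.π 1 D.Q.one_mem = 0 := (D.π_eq_zero _).2 D.R.one_mem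
      rw [h1, smul_zero, ← h1, D.s_π, one_mul, D.ρ_one, mul_zero]
    | mul x x' _ _ h1 h2 =>
      obtain ⟨h1, h3⟩ := h1
      obtain ⟨h2, h4⟩ := h2
      refine ⟨D.Q.mul_mem h1 h2, ?_⟩
      rw [D.π_mul h1 h2, smul_add, D.s_add, D.s_add, h3, h4]
      simp only [map_smul, LinearMap.smul_apply, smul_eq_mul]
      ring
    | inv x _ h1 =>
      obtain ⟨h1, h3⟩ := h1
      exact ⟨D.Q.inv_mem h1, by rw [D.π_inv h1, h3]⟩
  exact (key x (D.gen hx)).2

/-! ### Elements normalising `Q` and `R` -/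

/-- An element of `G` which normalises `Q` and acts on `R ≅ F` as multiplication by `c`. -/
structure Nor (g : G) (c : F) : Prop where
  Q₁ : ∀ x ∈ D.Q, g * x * g⁻¹ ∈ D.Q
  Q₂ : ∀ x ∈ D.Q, g⁻¹ * x * g ∈ D.Q
  R₁ : ∀ r ∈ D.R, g * r * g⁻¹ ∈ D.R ∧ D.ρ (g * r * g⁻¹) = c * D.ρ r

variable {D} in
theorem Nor.fn {g : G} {c : F} (h : D.Nor g c) {x : G} (hx : x ∈ D.Q) (z : D.Q) :
    D.fn (g * x * g⁻¹) z = c * D.fn x ⟨g⁻¹ * z * g, h.Q₂ z z.2⟩ := by
  change D.ρ _ = c * D.ρ _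
  rw [← (h.R₁ _ (D.comm x hx _ (h.Q₂ z z.2))).2]
  congr 1
  simp only [commutatorElement_def]
  group

variable {D} in
theorem Nor.inv {g : G} {c : F} (h : D.Nor g c) (hc : c ≠ 0) (hR : ∀ r ∈ D.R, g⁻¹ * r * g ∈ D.R) :
    D.Nor g⁻¹ c⁻¹ where
  Q₁ := fun x hx => by rw [inv_inv]; exact h.Q₂ x hx
  Q₂ := fun x hx => by rw [inv_inv]; exact h.Q₁ x hx
  R₁ := fun r hr => by
    rw [inv_inv]
    refine ⟨hR r hr, ?_⟩
    have h1 := (h.R₁ _ (hR r hr)).2
    have h2 : g * (g⁻¹ * r * g) * g⁻¹ = r := by group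
    rw [h2] at h1
    rw [h1, inv_mul_cancel_left₀ hc]

variable {D} in
/-- the `F`-linear map induced by a normalising element -/
def Nor.lin {g : G} {c : F} (h : D.Nor g c) : D.M →ₗ[F] D.M where
  toFun m := ⟨fun z => c * (m : D.Q → F) ⟨g⁻¹ * z * g, h.Q₂ z z.2⟩, by
    obtain ⟨x, hx, rfl⟩ := D.π_surj m
    refine ⟨g * x * g⁻¹, h.Q₁ x hx, ?_⟩
    funext z
    exact h.fn hx z⟩
  map_add' m n := Subtype.ext (funext fun z => mul_add _ _ _)
  map_smul' a m := Subtype.ext (funext fun z => by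
    change c * (a * _) = a * (c * _)
    ring)

variable {D} in
theorem Nor.lin_π {g : G} {c : F} (h : D.Nor g c) {x : G} (hx : x ∈ D.Q) :
    h.lin (D.π x hx) = D.π (g * x * g⁻¹) (h.Q₁ x hx) := by
  refine Subtype.ext ?_
  funext z
  exact (h.fn hx z).symm

variable {D} in
/-- the `F`-linear automorphism induced by a normalising element -/
def Nor.equiv {g : G} {c : F} (h : D.Nor g c) (hc : c ≠ 0) (hR : ∀ r ∈ D.R, g⁻¹ * r * g ∈ D.R) :
    D.M ≃ₗ[F] D.M :=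
  LinearEquiv.ofLinearMap h.lin (h.inv hc hR).lin
    (LinearMap.ext fun m => by
      obtain ⟨x, hx, rfl⟩ := D.π_surj m
      rw [LinearMap.comp_apply, Nor.lin_π, Nor.lin_π, LinearMap.id_apply]
      refine Subtype.ext (congrArg D.fn ?_)
      group)
    (LinearMap.ext fun m => by
      obtain ⟨x, hx, rfl⟩ := D.π_surj m
      rw [LinearMap.comp_apply, Nor.lin_π, Nor.lin_π, LinearMap.id_apply]
      refine Subtype.ext (congrArg D.fn ?_)
      group)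

variable {D} in
theorem Nor.equiv_π {g : G} {c : F} (h : D.Nor g c) (hc : c ≠ 0) (hR : ∀ r ∈ D.R, g⁻¹ * r * g ∈ D.R)
    {x : G} (hx : x ∈ D.Q) : h.equiv hc hR (D.π x hx) = D.π (g * x * g⁻¹) (h.Q₁ x hx) := h.lin_π hx

variable {D} in
/-- a normalising element normalises the image of `K`. -/
theorem Nor.conj_act {g : G} {c : F} (h : D.Nor g c) (hc : c ≠ 0) (hR : ∀ r ∈ D.R, g⁻¹ * r * g ∈ D.R)
    (k : D.K) (hk : g * k * g⁻¹ ∈ D.K) :
    h.equiv hc hR * D.act k * (h.equiv hc hR)⁻¹ = D.act ⟨g * k * g⁻¹, hk⟩ := by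
  rw [mul_inv_eq_iff_eq_mul]
  refine LinearEquiv.ext fun m => ?_
  obtain ⟨x, hx, rfl⟩ := D.π_surj m
  rw [LinearEquiv.mul_apply, LinearEquiv.mul_apply, D.act_π, h.equiv_π, h.equiv_π, D.act_π]
  refine Subtype.ext (congrArg D.fn ?_)
  push_cast
  group

/-- the `K`-conjugates of `E/R` span `M` -/
theorem span (N : Submodule F D.M)
    (h : ∀ k : D.K, ∀ x, ∀ hx : x ∈ D.E, D.act k (D.π x (D.E_le hx)) ∈ N) : N = ⊤ := by
  rw [eq_top_iff]
  intro m _
  obtain ⟨x, hx, rfl⟩ := D.π_surj m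
  have key : ∀ x ∈ Subgroup.closure {y | ∃ k ∈ D.K, ∃ x ∈ D.E, y = k * x * k⁻¹},
      ∃ hx : x ∈ D.Q, D.π x hx ∈ N := by
    intro x hx
    induction hx using Subgroup.closure_induction with
    | mem x hx =>
      obtain ⟨k, hk, e, he, rfl⟩ := hx
      refine ⟨D.norm k hk e (D.E_le he), ?_⟩
      have h3 := D.act_π ⟨k, hk⟩ (D.E_le he)
      change D.act ⟨k, hk⟩ (D.π e (D.E_le he)) = D.π (k * e * k⁻¹) _ at h3
      rw [← h3]
      exact h ⟨k, hk⟩ e he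
    | one => exact ⟨D.Q.one_mem, by rw [(D.π_eq_zero D.Q.one_mem).2 D.R.one_mem]; exact zero_mem _⟩
    | mul x x' _ _ h1 h2 =>
      obtain ⟨h1, h3⟩ := h1
      obtain ⟨h2, h4⟩ := h2
      exact ⟨D.Q.mul_mem h1 h2, by rw [D.π_mul h1 h2]; exact add_mem h3 h4⟩
    | inv x _ h1 =>
      obtain ⟨h1, h3⟩ := h1
      exact ⟨D.Q.inv_mem h1, by rw [D.π_inv h1]; exact h3⟩
  exact (key x (D.gen hx)).2

end Inp

end Cfsg.Agent.Omega.NOne.FStr
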