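import Mathlib

/-!
# THEOREM SL (type (gamma), `V = O₄⁺(q)`, `q ≥ 4`), section 0: the input

`F` a field of characteristic 2 with at least 4 elements, `M` (`= Q/R`) an `F`-space with a nondegenerate
quadratic form `s` (`=` squaring) and polar form `f` (`=` commutator), `H` (`= C_G(R)/Q`) a group of
`F`-linear isometries, `e = ⟨e₁, e₂⟩` (`= E/R`; `eᵢ` spans the `i`-th singular point), `P = e^⊥`,
`(y₁, y₂) : P → Φ₁ × Φ₂` onto with kernel `e` (`P/e = C_Q(V)/E = N' + N''`), `b` a perfect pairing, `J` the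
unipotent radical of the stabiliser of `e`: it induces `Hom(N', ⟨e₁⟩) + Hom(N'', ⟨e₂⟩)` on `P/e → e`, with
kernel the root group `m ↦ m + a (f m e₁ e₂ + f m e₂ e₁)` (`= V Q/Q`).

No torus, no finiteness is needed.

Output (`SL/Main.lean`): `M = M₁ ⊕ M₂`, `eᵢ ∈ Mᵢ`, both totally singular, `H` permutes `{M₁, M₂}`; the conjugates of
`e` under `H` are exactly the `⟨m, φ⟩` with `m ∈ M₁`, `φ ∈ M₂` nonzero and `f m φ = 0`; all their root groups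
(the transvections of `SL(M₁)`) are in `H`; `J` is the full unipotent radical.
-/

set_option autoImplicit false

namespace Cfsg.Agent.Omega.NOne.SL

/-- **The input of THEOREM SL.** -/
structure Spl (F M Φ₁ Φ₂ : Type*) [Field F] [AddCommGroup M] [Module F M] [AddCommGroup Φ₁]
    [Module F Φ₁] [AddCommGroup Φ₂] [Module F Φ₂] where
  /-- characteristic 2 -/
  two : (2 : F) = 0
  /-- `|F| ≥ 4` (only `> 2` is used) -/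
  four : ∃ a : F, a ≠ 0 ∧ a ≠ 1
  /-- the polar form (commutator) -/
  f : M →ₗ[F] M →ₗ[F] F
  /-- the quadratic form (squaring) -/
  s : M → F
  s_add : ∀ x y, s (x + y) = s x + s y + f x y
  s_smul : ∀ (c : F) x, s (c • x) = c ^ 2 * s x
  nondeg : ∀ m, (∀ m', f m m' = 0) → m = 0
  /-- the group -/
  H : Subgroup (M ≃ₗ[F] M)
  isom : ∀ g ∈ H, ∀ m, s (g m) = s m
  /-- the pairing of `N'` and `N''` -/
  b : Φ₁ →ₗ[F] Φ₂ →ₗ[F] F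
  b_left : ∀ x, (∀ y, b x y = 0) → x = 0
  b_right : ∀ y, (∀ x, b x y = 0) → y = 0
  /-- the singular line `e` with its two distinguished points -/
  e₁ : M
  e₂ : M
  e_ind : ∀ a c : F, a • e₁ + c • e₂ = 0 → a = 0 ∧ c = 0
  s₁ : s e₁ = 0
  s₂ : s e₂ = 0
  e_perp : f e₁ e₂ = 0
  /-- `P/e = Φ₁ ⊕ Φ₂`, `P = e^⊥` (the maps are used on `P` only) -/
  y₁ : M →ₗ[F] Φ₁
  y₂ : M →ₗ[F] Φ₂
  y_surj : ∀ x₁ x₂, ∃ m, f e₁ m = 0 ∧ f e₂ m = 0 ∧ y₁ m = x₁ ∧ y₂ m = x₂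
  y_e₁ : y₁ e₁ = 0 ∧ y₂ e₁ = 0
  y_e₂ : y₁ e₂ = 0 ∧ y₂ e₂ = 0
  y_ker : ∀ m, f e₁ m = 0 → f e₂ m = 0 → y₁ m = 0 → y₂ m = 0 → ∃ a c : F, m = a • e₁ + c • e₂
  sy : ∀ m, f e₁ m = 0 → f e₂ m = 0 → s m = b (y₁ m) (y₂ m)
  /-- the unipotent radical of the stabiliser of `e` -/
  J : Subgroup (M ≃ₗ[F] M)
  J_le : J ≤ H
  χ₁ : (M ≃ₗ[F] M) → Φ₁
  χ₂ : (M ≃ₗ[F] M) → Φ₂
  JP : ∀ j ∈ J, ∀ m, f e₁ m = 0 → f e₂ m = 0 →
    j m = m + b (y₁ m) (χ₂ j) • e₁ + b (χ₁ j) (y₂ m) • e₂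
  JM : ∀ j ∈ J, ∀ m, f e₁ (j m - m) = 0 ∧ f e₂ (j m - m) = 0
  Jall : ∀ x₁ x₂, ∃ j ∈ J, χ₁ j = x₁ ∧ χ₂ j = x₂
  /-- the root group of `e` -/
  Jn : ∀ a : F, ∃ j ∈ J, ∀ m, j m = m + a • (f m e₁ • e₂ + f m e₂ • e₁)
  Jmax : ∀ g ∈ H, g e₁ = e₁ → g e₂ = e₂ →
    (∀ m, f e₁ m = 0 → f e₂ m = 0 → ∃ a c : F, g m - m = a • e₁ + c • e₂) →
    (∀ m, f e₁ (g m - m) = 0 ∧ f e₂ (g m - m) = 0) → g ∈ J
  /-- the stabiliser of `e` permutes the two points of `e` -/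
  Se : ∀ g ∈ H, (∃ a c : F, g e₁ = a • e₁ + c • e₂) → (∃ a c : F, g e₂ = a • e₁ + c • e₂) →
    ((∃ a : F, g e₁ = a • e₁) ∧ ∃ a : F, g e₂ = a • e₂) ∨
      ((∃ a : F, g e₁ = a • e₂) ∧ ∃ a : F, g e₂ = a • e₁)
  /-- the conjugates of `e` span `M` -/
  Om : ∀ N : Submodule F M, (∀ g ∈ H, g e₁ ∈ N ∧ g e₂ ∈ N) → N = ⊤

end Cfsg.Agent.Omega.NOne.SL
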