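import Cfsg.Agent.Omega.NOne.SL.Opp

/-!
# THEOREM SL, section 3: the decomposition `M = M₁ ⊕ M₂`
-/

set_option autoImplicit false
set_option linter.unusedSimpArgs false

namespace Cfsg.Agent.Omega.NOne.SL

namespace Spl

variable {F M Φ₁ Φ₂ : Type*} [Field F] [AddCommGroup M] [Module F M] [AddCommGroup Φ₁]
    [Module F Φ₁] [AddCommGroup Φ₂] [Module F Φ₂] (D : Spl F M Φ₁ Φ₂)

/-- An opposite conjugate `e' = ⟨c₁, c₂⟩` with dual basis. -/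
structure Fr where
  c₁ : M
  c₂ : M
  f11 : D.f c₁ D.e₁ = 0
  f12 : D.f c₁ D.e₂ = 1
  f21 : D.f c₂ D.e₁ = 1
  f22 : D.f c₂ D.e₂ = 0
  t₁ : D.s c₁ = 0
  t₂ : D.s c₂ = 0
  fc : D.f c₁ c₂ = 0
  root : ∀ a : F, ∃ h ∈ D.H, ∀ m, h m = m + a • (D.f m c₁ • c₂ + D.f m c₂ • c₁)

theorem exists_fr : Nonempty D.Fr := by
  obtain ⟨g, hg, c₁, h1, c₂, h2, h3, h4, h5, h6⟩ := D.exists_opp
  exact ⟨c₁, c₂, h3, h4, h5, h6, D.E_sing hg h1, D.E_sing hg h2, D.E_perp hg h1 h2, D.root hg h1 h2⟩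

namespace Fr

variable {D} (A : D.Fr)

/-- swapping the two halves -/
@[simps] def swap : D.swap.Fr where
  c₁ := A.c₂
  c₂ := A.c₁
  f11 := A.f22
  f12 := A.f21
  f21 := A.f12
  f22 := A.f11
  t₁ := A.t₂
  t₂ := A.t₁
  fc := by
    have := A.fc
    rw [D.f_symm] at this
    exact this
  root := fun a => by
    obtain ⟨h, hh, hm⟩ := A.root a
    refine ⟨h, hh, fun m => ?_⟩
    rw [hm]
    simp only [Spl.swap]
    module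

theorem fe₁ : D.f D.e₁ A.c₁ = 0 := by rw [D.f_symm, A.f11]
theorem fe₂ : D.f D.e₂ A.c₁ = 1 := by rw [D.f_symm, A.f12]
theorem fe₁' : D.f D.e₁ A.c₂ = 1 := by rw [D.f_symm, A.f21]
theorem fe₂' : D.f D.e₂ A.c₂ = 0 := by rw [D.f_symm, A.f22]
theorem fc' : D.f A.c₂ A.c₁ = 0 := by rw [D.f_symm, A.fc]

/-- the projection onto `U = e^⊥ ∩ e'^⊥` -/
def pr : M →ₗ[F] M :=
  LinearMap.id + (D.f.flip A.c₂).smulRight D.e₁ + (D.f.flip A.c₁).smulRight D.e₂ +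
    (D.f.flip D.e₂).smulRight A.c₁ + (D.f.flip D.e₁).smulRight A.c₂

theorem pr_apply (m : M) : A.pr m = m + D.f m A.c₂ • D.e₁ + D.f m A.c₁ • D.e₂ + D.f m D.e₂ • A.c₁ +
    D.f m D.e₁ • A.c₂ := rfl

/-- membership in `U` -/
def InU (m : M) : Prop := D.f m D.e₁ = 0 ∧ D.f m D.e₂ = 0 ∧ D.f m A.c₁ = 0 ∧ D.f m A.c₂ = 0

theorem inU_pr (m : M) : A.InU (A.pr m) := by
  refine ⟨?_, ?_, ?_, ?_⟩ <;>
  · rw [A.pr_apply]
    simp only [D.f_add_left, D.f_smul_left, D.f_self, D.e_perp, D.e_perp', A.f11, A.f12, A.f21, A.f22,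
      A.fe₁, A.fe₂, A.fe₁', A.fe₂', A.fc, A.fc', mul_zero, mul_one, add_zero, D.dbl]

theorem InU.inP {m : M} (h : A.InU m) : D.InP m :=
  ⟨by rw [D.f_symm]; exact h.1, by rw [D.f_symm]; exact h.2.1⟩

theorem InU.pr_eq {m : M} (h : A.InU m) : A.pr m = m := by
  rw [A.pr_apply, h.1, h.2.1, h.2.2.1, h.2.2.2]
  simp

theorem eq_add (m : M) : m = D.f m A.c₂ • D.e₁ + D.f m D.e₁ • A.c₂ + (D.f m A.c₁ • D.e₂ +
    D.f m D.e₂ • A.c₁) + A.pr m := by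
  rw [A.pr_apply]
  linear_combination (norm := module) -(D.f m A.c₂) • D.two • D.e₁ - (D.f m D.e₁) • D.two • A.c₂ -
    (D.f m A.c₁) • D.two • D.e₂ - (D.f m D.e₂) • D.two • A.c₁

theorem s_eq (m : M) : D.s m = D.f m A.c₂ * D.f m D.e₁ + D.f m A.c₁ * D.f m D.e₂ +
    D.b (D.y₁ (A.pr m)) (D.y₂ (A.pr m)) := by
  have hU := A.inU_pr m
  have hP := InU.inP A hU
  conv_lhs => rw [A.eq_add m]
  set u := A.pr m
  rw [D.s_add, D.s_add, D.s_add, D.s_add, D.s_smul, D.s_smul, D.s_smul, D.s_smul, D.s₁, D.s₂, A.t₁, A.t₂,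
    D.sy u hP.1 hP.2]
  simp only [map_add, map_smul, LinearMap.add_apply, LinearMap.smul_apply, smul_eq_mul, D.f_self, D.e_perp,
    D.e_perp', A.f11, A.f12, A.f21, A.f22, A.fe₁, A.fe₂, A.fe₁', A.fe₂', A.fc, A.fc', D.f_symm D.e₁ u,
    D.f_symm D.e₂ u, D.f_symm A.c₁ u, D.f_symm A.c₂ u, hU.1, hU.2.1, hU.2.2.1, hU.2.2.2]
  ring

theorem U_eq_zero {u : M} (h : A.InU u) (h1 : D.y₁ u = 0) (h2 : D.y₂ u = 0) : u = 0 := by
  have hP := InU.inP A h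
  obtain ⟨a, c, hu⟩ := D.y_ker u hP.1 hP.2 h1 h2
  have e1 := h.2.2.1
  have e2 := h.2.2.2
  rw [hu, D.f_add_left, D.f_smul_left, D.f_smul_left, A.fe₁, A.fe₂] at e1
  rw [hu, D.f_add_left, D.f_smul_left, D.f_smul_left, A.fe₁', A.fe₂'] at e2
  have hc : c = 0 := by linear_combination e1
  have ha : a = 0 := by linear_combination e2
  rw [hu, ha, hc]
  simp

theorem lift (x₁ : Φ₁) (x₂ : Φ₂) : ∃ u, A.InU u ∧ D.y₁ u = x₁ ∧ D.y₂ u = x₂ := by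
  obtain ⟨m, h1, h2, h3, h4⟩ := D.y_surj x₁ x₂
  refine ⟨A.pr m, A.inU_pr m, ?_, ?_⟩
  · rw [A.pr_apply, D.f_symm m D.e₁, D.f_symm m D.e₂, h1, h2]
    simp [D.y_e₁.1, D.y_e₂.1, h3]
  · rw [A.pr_apply, D.f_symm m D.e₁, D.f_symm m D.e₂, h1, h2]
    simp [D.y_e₁.2, D.y_e₂.2, h4]

/-- **`M₁`** -/
def M₁ : Submodule F M :=
  LinearMap.ker (D.f.flip A.c₁) ⊓ LinearMap.ker (D.f.flip D.e₁) ⊓ LinearMap.ker (D.y₂ ∘ₗ A.pr)

theorem mem_M₁ {m : M} : m ∈ A.M₁ ↔ D.f m A.c₁ = 0 ∧ D.f m D.e₁ = 0 ∧ D.y₂ (A.pr m) = 0 := by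
  rw [M₁, Submodule.mem_inf, Submodule.mem_inf, LinearMap.mem_ker, LinearMap.mem_ker, LinearMap.mem_ker,
    and_assoc]
  rfl

/-- **`M₂`** -/
def M₂ : Submodule F M := A.swap.M₁

theorem pr_swap (m : M) : A.swap.pr m = A.pr m := by
  rw [A.swap.pr_apply, A.pr_apply]
  simp only [Spl.swap, Fr.swap]
  abel

theorem mem_M₂ {m : M} : m ∈ A.M₂ ↔ D.f m A.c₂ = 0 ∧ D.f m D.e₂ = 0 ∧ D.y₁ (A.pr m) = 0 := by
  rw [M₂, A.swap.mem_M₁, A.pr_swap]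
  rfl

theorem M₂_swap : A.swap.M₂ = A.M₁ := by
  ext m
  rw [A.swap.mem_M₂, A.pr_swap, A.mem_M₁]
  rfl

theorem s_M₁ {m : M} (hm : m ∈ A.M₁) : D.s m = 0 := by
  have h := A.mem_M₁.1 hm
  rw [A.s_eq m, h.1, h.2.1, h.2.2, map_zero]
  ring

theorem s_M₂ {m : M} (hm : m ∈ A.M₂) : D.s m = 0 := A.swap.s_M₁ hm

theorem f_M₁ {m n : M} (hm : m ∈ A.M₁) (hn : n ∈ A.M₁) : D.f m n = 0 := by
  have h := D.s_add m n
  rw [A.s_M₁ (add_mem hm hn), A.s_M₁ hm, A.s_M₁ hn] at h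
  linear_combination -h

theorem f_M₂ {m n : M} (hm : m ∈ A.M₂) (hn : n ∈ A.M₂) : D.f m n = 0 := A.swap.f_M₁ hm hn

theorem e₁_mem : D.e₁ ∈ A.M₁ := by
  rw [A.mem_M₁]
  refine ⟨A.fe₁, D.f_self _, ?_⟩
  rw [A.pr_apply, D.f_self, A.fe₁, A.fe₁', D.e_perp]
  simp [D.y_e₁.2]

theorem c₁_mem : A.c₁ ∈ A.M₁ := by
  rw [A.mem_M₁]
  refine ⟨D.f_self _, A.f11, ?_⟩
  rw [A.pr_apply, D.f_self, A.f11, A.fc, A.f12]
  simp [D.dblM]

theorem e₂_mem : D.e₂ ∈ A.M₂ := A.swap.e₁_mem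

theorem c₂_mem : A.c₂ ∈ A.M₂ := A.swap.c₁_mem

theorem inU_mem_M₁ {u : M} (h : A.InU u) (h2 : D.y₂ u = 0) : u ∈ A.M₁ := by
  rw [A.mem_M₁, InU.pr_eq A h]
  exact ⟨h.2.2.1, h.1, h2⟩

theorem InU.swap {u : M} (h : A.InU u) : A.swap.InU u := ⟨h.2.1, h.1, h.2.2.2, h.2.2.1⟩

theorem inU_mem_M₂ {u : M} (h : A.InU u) (h1 : D.y₁ u = 0) : u ∈ A.M₂ :=
  A.swap.inU_mem_M₁ (InU.swap A h) h1

theorem M₁_eq {m : M} (hm : m ∈ A.M₁) : m = D.f m A.c₂ • D.e₁ + D.f m D.e₂ • A.c₁ + A.pr m := by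
  have h := A.mem_M₁.1 hm
  conv_lhs => rw [A.eq_add m, h.1, h.2.1]
  simp

theorem isCompl : IsCompl A.M₁ A.M₂ := by
  constructor
  · rw [Submodule.disjoint_def]
    intro m h1 h2
    have a1 := A.mem_M₁.1 h1
    have a2 := A.mem_M₂.1 h2
    have hU : A.InU m := ⟨a1.2.1, a2.2.1, a1.1, a2.1⟩
    have hp := InU.pr_eq A hU
    rw [hp] at a1 a2
    exact A.U_eq_zero hU a2.2.2 a1.2.2
  · rw [codisjoint_iff, eq_top_iff]
    intro m _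
    obtain ⟨u, hu, h1, h2⟩ := A.lift (D.y₁ (A.pr m)) 0
    have hU := A.inU_pr m
    have hv : A.InU (A.pr m + u) := by
      refine ⟨?_, ?_, ?_, ?_⟩
      · rw [D.f_add_left, hU.1, hu.1, add_zero]
      · rw [D.f_add_left, hU.2.1, hu.2.1, add_zero]
      · rw [D.f_add_left, hU.2.2.1, hu.2.2.1, add_zero]
      · rw [D.f_add_left, hU.2.2.2, hu.2.2.2, add_zero]
    have hv1 : D.y₁ (A.pr m + u) = 0 := by
      rw [map_add, h1, ← two_smul F, D.two, zero_smul]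
    have e : m = (D.f m A.c₂ • D.e₁ + D.f m D.e₂ • A.c₁ + u) +
        (D.f m A.c₁ • D.e₂ + D.f m D.e₁ • A.c₂ + (A.pr m + u)) := by
      conv_lhs => rw [A.eq_add m]
      linear_combination (norm := module) -D.two • u
    rw [e]
    refine Submodule.add_mem_sup ?_ ?_
    · exact add_mem (add_mem (Submodule.smul_mem _ _ A.e₁_mem) (Submodule.smul_mem _ _ A.c₁_mem))
        (A.inU_mem_M₁ hu h2)
    · exact add_mem (add_mem (Submodule.smul_mem _ _ A.e₂_mem) (Submodule.smul_mem _ _ A.c₂_mem))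
        (A.inU_mem_M₂ hv hv1)

/-- `M₁` and `M₂` are dual to each other. -/
theorem dual₁ {m : M} (hm : m ∈ A.M₁) (h : ∀ φ ∈ A.M₂, D.f m φ = 0) : m = 0 := by
  refine D.nondeg m fun m' => ?_
  have h1 : m' ∈ A.M₁ ⊔ A.M₂ := by rw [A.isCompl.sup_eq_top]; trivial
  obtain ⟨x, hx, y, hy, rfl⟩ := Submodule.mem_sup.1 h1
  rw [map_add, A.f_M₁ hm hx, h y hy, add_zero]

theorem dual₂ {m : M} (hm : m ∈ A.M₂) (h : ∀ φ ∈ A.M₁, D.f m φ = 0) : m = 0 := by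
  refine A.swap.dual₁ hm ?_
  rw [A.M₂_swap]
  exact h

/-! ### `J` and the root groups preserve `M₁` -/

theorem fy_U {u v : M} (hu : A.InU u) (hv : A.InU v) :
    D.f u v = D.b (D.y₁ u) (D.y₂ v) + D.b (D.y₁ v) (D.y₂ u) := D.fy (InU.inP A hu) (InU.inP A hv)

/-- `f m u = f (pr m) u` for `u ∈ U` -/
theorem f_pr {m u : M} (hu : A.InU u) : D.f (A.pr m) u = D.f m u := by
  rw [A.pr_apply]
  simp only [D.f_add_left, D.f_smul_left, D.f_symm D.e₁ u, D.f_symm D.e₂ u, D.f_symm A.c₁ u,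
    D.f_symm A.c₂ u, hu.1, hu.2.1, hu.2.2.1, hu.2.2.2, mul_zero, add_zero]

theorem J_c₁ {j : M ≃ₗ[F] M} (hj : j ∈ D.J) : j A.c₁ ∈ A.M₁ ∧ D.y₁ (A.pr (j A.c₁)) = D.χ₁ j ∧
    D.f (j A.c₁) D.e₂ = 1 := by
  have hjH := D.J_le hj
  have h1 : D.f (j A.c₁) D.e₁ = 0 := by
    conv_lhs => rw [← D.j_e₁ hj]
    rw [D.isomf hjH, A.f11]
  have h2 : D.f (j A.c₁) D.e₂ = 1 := by
    conv_lhs => rw [← D.j_e₂ hj]
    rw [D.isomf hjH, A.f12]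
  have hU := A.inU_pr (j A.c₁)
  have h3 : D.y₂ (A.pr (j A.c₁)) = 0 := by
    refine D.b_right _ fun x => ?_
    obtain ⟨u, hu, hu1, hu2⟩ := A.lift x 0
    have hP := InU.inP A hu
    have h4 := D.isomf hjH A.c₁ u
    rw [D.f_symm A.c₁ u, hu.2.2.1, D.JP j hj u hP.1 hP.2, hu1, hu2, map_zero, zero_smul, add_zero, map_add,
      map_smul, h1, smul_zero, add_zero, ← A.f_pr hu, A.fy_U hU hu, hu1, hu2, map_zero, zero_add] at h4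
    exact h4
  have h5 : D.y₁ (A.pr (j A.c₁)) = D.χ₁ j := by
    rw [← sub_eq_zero]
    refine D.b_left _ fun y => ?_
    obtain ⟨u, hu, hu1, hu2⟩ := A.lift 0 y
    have hP := InU.inP A hu
    have h4 := D.isomf hjH A.c₁ u
    rw [D.f_symm A.c₁ u, hu.2.2.1, D.JP j hj u hP.1 hP.2, hu1, hu2, map_zero, LinearMap.zero_apply,
      zero_smul, add_zero, map_add, map_smul, h2, ← A.f_pr hu, A.fy_U hU hu, hu1, hu2, map_zero,
      LinearMap.zero_apply, add_zero, smul_eq_mul, mul_one] at h4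
    rw [map_sub, LinearMap.sub_apply, sub_eq_add_neg, D.neg_eq, h4]
  refine ⟨?_, h5, h2⟩
  rw [A.mem_M₁]
  refine ⟨?_, h1, h3⟩
  have h6 := A.s_eq (j A.c₁)
  rw [D.isom j hjH, A.t₁, h1, h2, h3, map_zero] at h6
  linear_combination -h6

theorem J_c₂ {j : M ≃ₗ[F] M} (hj : j ∈ D.J) : j A.c₂ ∈ A.M₂ ∧ D.y₂ (A.pr (j A.c₂)) = D.χ₂ j ∧
    D.f (j A.c₂) D.e₁ = 1 := by
  have h := A.swap.J_c₁ (j := j) hj
  rw [A.pr_swap] at h
  exact h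

theorem J_M₁ {j : M ≃ₗ[F] M} (hj : j ∈ D.J) {m : M} (hm : m ∈ A.M₁) : j m ∈ A.M₁ := by
  have hU := A.inU_pr m
  have hP := InU.inP A hU
  rw [A.M₁_eq hm, map_add, map_add, map_smul, map_smul, D.j_e₁ hj, D.JP j hj _ hP.1 hP.2,
    (A.mem_M₁.1 hm).2.2, map_zero, zero_smul, add_zero]
  refine add_mem (add_mem (Submodule.smul_mem _ _ A.e₁_mem) (Submodule.smul_mem _ _ (A.J_c₁ hj).1)) ?_
  exact add_mem (A.inU_mem_M₁ hU (A.mem_M₁.1 hm).2.2) (Submodule.smul_mem _ _ A.e₁_mem)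

theorem J_M₂ {j : M ≃ₗ[F] M} (hj : j ∈ D.J) {m : M} (hm : m ∈ A.M₂) : j m ∈ A.M₂ :=
  A.swap.J_M₁ (j := j) hj hm

theorem isCompl_map {g : M ≃ₗ[F] M} (h1 : ∀ m ∈ A.M₁, g m ∈ A.M₁) (h2 : ∀ m ∈ A.M₂, g m ∈ A.M₂) :
    ∀ m, g m ∈ A.M₁ → m ∈ A.M₁ := by
  intro m hm
  have h3 : m ∈ A.M₁ ⊔ A.M₂ := by rw [A.isCompl.sup_eq_top]; trivial
  obtain ⟨x, hx, y, hy, rfl⟩ := Submodule.mem_sup.1 h3
  have h4 : g y ∈ A.M₁ := by
    have := sub_mem hm (h1 x hx)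
    rwa [map_add, add_sub_cancel_left] at this
  have h5 : g y = 0 := (Submodule.disjoint_def.1 A.isCompl.disjoint) _ h4 (h2 y hy)
  have h6 : y = 0 := by simpa using h5
  rw [h6, add_zero]
  exact hx

/-- The subgroup of `H` preserving `M₁` and `M₂`. -/
def H0 : Subgroup (M ≃ₗ[F] M) where
  carrier := {g | g ∈ D.H ∧ (∀ m ∈ A.M₁, g m ∈ A.M₁) ∧ ∀ m ∈ A.M₂, g m ∈ A.M₂}
  mul_mem' := by
    rintro g h ⟨g1, g2, g3⟩ ⟨h1, h2, h3⟩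
    exact ⟨D.H.mul_mem g1 h1, fun m hm => g2 _ (h2 m hm), fun m hm => g3 _ (h3 m hm)⟩
  one_mem' := ⟨D.H.one_mem, fun _ h => h, fun _ h => h⟩
  inv_mem' := by
    rintro g ⟨g1, g2, g3⟩
    refine ⟨D.H.inv_mem g1, fun m hm => ?_, fun m hm => ?_⟩
    · apply A.isCompl_map g2 g3
      rwa [show g (g⁻¹ m) = m from g.apply_symm_apply m]
    · have := A.swap.isCompl_map (g := g) g3 (by rw [A.M₂_swap]; exact g2) (g⁻¹ m)
      apply this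
      rw [show g (g⁻¹ m) = m from g.apply_symm_apply m]
      exact hm

theorem mem_H0 {g : M ≃ₗ[F] M} : g ∈ A.H0 ↔ g ∈ D.H ∧ (∀ m ∈ A.M₁, g m ∈ A.M₁) ∧
    ∀ m ∈ A.M₂, g m ∈ A.M₂ := Iff.rfl

theorem J_le_H0 : D.J ≤ A.H0 := fun _ hj => ⟨D.J_le hj, fun _ => A.J_M₁ hj, fun _ => A.J_M₂ hj⟩

theorem H0_swap : A.swap.H0 = A.H0 := by
  ext g
  rw [A.mem_H0, A.swap.mem_H0, A.M₂_swap]
  exact ⟨fun h => ⟨h.1, h.2.2, h.2.1⟩, fun h => ⟨h.1, h.2.2, h.2.1⟩⟩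

/-- the root elements of `e'` are in `H0`. -/
theorem root0 (a : F) : ∃ h ∈ A.H0, ∀ m, h m = m + a • (D.f m A.c₁ • A.c₂ + D.f m A.c₂ • A.c₁) := by
  obtain ⟨h, hh, hm⟩ := A.root a
  refine ⟨h, ⟨hh, fun m h1 => ?_, fun m h1 => ?_⟩, hm⟩
  · rw [hm, (A.mem_M₁.1 h1).1, zero_smul, zero_add]
    exact add_mem h1 (Submodule.smul_mem _ _ (Submodule.smul_mem _ _ A.c₁_mem))
  · rw [hm, (A.mem_M₂.1 h1).1, zero_smul, add_zero]
    exact add_mem h1 (Submodule.smul_mem _ _ (Submodule.smul_mem _ _ A.c₂_mem))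

/-- **The element `σ`** interchanging `eᵢ` and `cᵢ`. -/
theorem exists_sigma : ∃ σ ∈ A.H0, σ D.e₁ = A.c₁ ∧ σ D.e₂ = A.c₂ ∧ σ A.c₁ = D.e₁ ∧ σ A.c₂ = D.e₂ := by
  obtain ⟨h, hh, hm⟩ := A.root0 1
  obtain ⟨j, hj, hjm⟩ := D.Jn 1
  have hj' := A.J_le_H0 hj
  refine ⟨j * (h * j), A.H0.mul_mem hj' (A.H0.mul_mem hh hj'), ?_, ?_, ?_, ?_⟩ <;>
  · simp only [LinearEquiv.mul_apply, hm, hjm, map_add, map_smul, LinearMap.add_apply, LinearMap.smul_apply, D.f_self,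
      D.e_perp, D.e_perp', A.f11, A.f12, A.f21, A.f22, A.fe₁, A.fe₂, A.fe₁', A.fe₂', A.fc, A.fc', one_smul,
      zero_smul, add_zero, zero_add, smul_eq_mul, mul_one, mul_zero, D.dblM, D.dbl, smul_zero]
    first
      | linear_combination (norm := module) D.two • D.e₁
      | linear_combination (norm := module) D.two • D.e₂
      | linear_combination (norm := module) D.two • A.c₁
      | linear_combination (norm := module) D.two • A.c₂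

end Fr

end Spl

end Cfsg.Agent.Omega.NOne.SL
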