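import Cfsg.Agent.Omega.NOne.SL.Orbit

/-!
# THEOREM SL: the output
-/

set_option autoImplicit false
set_option linter.unusedSimpArgs false

namespace Cfsg.Agent.Omega.NOne.SL

namespace Spl

variable {F M Φ₁ Φ₂ : Type*} [Field F] [AddCommGroup M] [Module F M] [AddCommGroup Φ₁]
    [Module F Φ₁] [AddCommGroup Φ₂] [Module F Φ₂] {D : Spl F M Φ₁ Φ₂}

namespace Fr

variable (A : D.Fr)

/-- every vector of `M₁` belongs to an incident pair -/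
theorem exists_inc {m : M} (hm : m ∈ A.M₁) : ∃ φ ∈ A.M₂, φ ≠ 0 ∧ D.f m φ = 0 := by
  have hx : ∃ x ∈ A.M₁, ∀ c : F, x ≠ c • m := by
    by_contra hcon
    push Not at hcon
    obtain ⟨a, ha⟩ := hcon _ A.e₁_mem
    obtain ⟨c, hc⟩ := hcon _ A.c₁_mem
    have h1 : D.f m D.e₂ = 0 := by
      have h2 := D.e_perp
      rw [ha, map_smul, LinearMap.smul_apply, smul_eq_mul] at h2
      refine (mul_eq_zero.1 h2).resolve_left ?_
      rintro rfl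
      exact D.e₁_ne (by rw [ha, zero_smul])
    have h2 := A.f12
    rw [hc, map_smul, LinearMap.smul_apply, h1, smul_zero] at h2
    exact zero_ne_one h2
  obtain ⟨x, hx, h1⟩ := hx
  obtain ⟨φ, hφ, h2, h3⟩ := A.sep₁ hx hm h1
  refine ⟨φ, hφ, ?_, h2⟩
  rintro rfl
  exact h3 (map_zero _)

theorem point_mem {g : M ≃ₗ[F] M} (hg : g ∈ D.H) {m : M} (hm : m ∈ A.M₁) : g m ∈ A.M₁ ∨ g m ∈ A.M₂ := by
  by_cases hm0 : m = 0
  · left; rw [hm0, map_zero]; exact zero_mem _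
  obtain ⟨φ, hφ, hφ0, h1⟩ := A.exists_inc hm
  obtain ⟨k, hk, a, c, ha, hc, k1, k2⟩ := A.orbit hm hφ hm0 hφ0 h1
  obtain ⟨l, hl, hE⟩ := A.conj (D.H.mul_mem hg hk.1)
  have hli := D.H.inv_mem hl.1
  have hst : ∀ v ∈ D.E 1, (l⁻¹ * (g * k)) v ∈ D.E 1 := by
    intro v hv
    have h2 : (g * k) v ∈ D.E l := by
      rw [← hE]
      have := D.map_mem_E (w := g * k) hv
      rwa [mul_one] at this
    have := D.map_mem_E (w := l⁻¹) h2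
    rwa [inv_mul_cancel] at this
  have h1' := D.mem_E_one.1 (hst _ (left_mem_E 1))
  have h2' := D.mem_E_one.1 (hst _ (right_mem_E 1))
  have hinv : ∀ v, l (l⁻¹ v) = v := fun v => l.apply_symm_apply v
  have hgm : g m = a⁻¹ • (g * k) D.e₁ := by
    rw [LinearEquiv.mul_apply, k1, map_smul, inv_smul_smul₀ ha]
  rcases D.Se _ (D.H.mul_mem hli (D.H.mul_mem hg hk.1)) h1' h2' with ⟨⟨b, hb⟩, -⟩ | ⟨⟨b, hb⟩, -⟩
  · left
    have h3 : (g * k) D.e₁ = b • l D.e₁ := by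
      rw [← map_smul, ← hb, LinearEquiv.mul_apply l⁻¹, hinv]
    rw [hgm, h3]
    exact Submodule.smul_mem _ _ (Submodule.smul_mem _ _ (hl.2.1 _ A.e₁_mem))
  · right
    have h3 : (g * k) D.e₁ = b • l D.e₂ := by
      rw [← map_smul, ← hb, LinearEquiv.mul_apply l⁻¹, hinv]
    rw [hgm, h3]
    exact Submodule.smul_mem _ _ (Submodule.smul_mem _ _ (hl.2.2 _ A.e₂_mem))

theorem map_M₁ {g : M ≃ₗ[F] M} (hg : g ∈ D.H) : (∀ m ∈ A.M₁, g m ∈ A.M₁) ∨ ∀ m ∈ A.M₁, g m ∈ A.M₂ := by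
  by_cases h1 : ∀ m ∈ A.M₁, g m ∈ A.M₁
  · exact Or.inl h1
  right
  push Not at h1
  obtain ⟨x, hx, hx1⟩ := h1
  have hx2 := (A.point_mem hg hx).resolve_left hx1
  intro y hy
  by_contra hy2
  have hy1 := (A.point_mem hg hy).resolve_right hy2
  rcases A.point_mem hg (add_mem hx hy) with h | h
  · rw [map_add] at h
    exact hx1 (by
      have := sub_mem h hy1
      rwa [add_sub_cancel_right] at this)
  · rw [map_add] at h
    exact hy2 (by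
      have := sub_mem h hx2
      rwa [add_sub_cancel_left] at this)

theorem map_M₂ {g : M ≃ₗ[F] M} (hg : g ∈ D.H) : (∀ m ∈ A.M₂, g m ∈ A.M₂) ∨ ∀ m ∈ A.M₂, g m ∈ A.M₁ := by
  have := A.swap.map_M₁ (g := g) hg
  rw [A.M₂_swap] at this
  exact this

/-- **`H` permutes `{M₁, M₂}`.** -/
theorem perm {g : M ≃ₗ[F] M} (hg : g ∈ D.H) :
    g ∈ A.H0 ∨ ((∀ m ∈ A.M₁, g m ∈ A.M₂) ∧ ∀ m ∈ A.M₂, g m ∈ A.M₁) := by
  have hsurj : ∀ v, ∃ x ∈ A.M₁, ∃ y ∈ A.M₂, v = g x + g y := by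
    intro v
    have h1 : g⁻¹ v ∈ A.M₁ ⊔ A.M₂ := by rw [A.isCompl.sup_eq_top]; trivial
    obtain ⟨x, hx, y, hy, h⟩ := Submodule.mem_sup.1 h1
    exact ⟨x, hx, y, hy, by rw [← map_add, h]; exact (g.apply_symm_apply v).symm⟩
  rcases A.map_M₁ hg with h1 | h1 <;> rcases A.map_M₂ hg with h2 | h2
  · exact Or.inl ⟨hg, h1, h2⟩
  · exfalso
    obtain ⟨x, hx, y, hy, h⟩ := hsurj D.e₂
    apply D.e₂_ne
    refine (Submodule.disjoint_def.1 A.isCompl.disjoint) _ ?_ A.e₂_mem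
    rw [h]
    exact add_mem (h1 x hx) (h2 y hy)
  · exfalso
    obtain ⟨x, hx, y, hy, h⟩ := hsurj D.e₁
    apply D.e₁_ne
    refine (Submodule.disjoint_def.1 A.isCompl.disjoint) _ A.e₁_mem ?_
    rw [h]
    exact add_mem (h1 x hx) (h2 y hy)
  · exact Or.inr ⟨h1, h2⟩

/-- **The transvections.** -/
theorem trans {m φ : M} (hm : m ∈ A.M₁) (hφ : φ ∈ A.M₂) (h0 : D.f m φ = 0) (a : F) :
    ∃ h ∈ A.H0, ∀ x, h x = x + a • (D.f x m • φ + D.f x φ • m) := by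
  by_cases hm0 : m = 0
  · exact ⟨1, A.H0.one_mem, fun x => by simp [hm0]⟩
  by_cases hφ0 : φ = 0
  · exact ⟨1, A.H0.one_mem, fun x => by simp [hφ0]⟩
  obtain ⟨k, hk, b, c, hb, hc, k1, k2⟩ := A.orbit hm hφ hm0 hφ0 h0
  have h1 : m ∈ D.E k := by
    rw [← inv_smul_smul₀ hb m, ← k1]
    exact Submodule.smul_mem _ _ (left_mem_E k)
  have h2 : φ ∈ D.E k := by
    rw [← inv_smul_smul₀ hc φ, ← k2]
    exact Submodule.smul_mem _ _ (right_mem_E k)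
  obtain ⟨h, hh, hx⟩ := D.root hk.1 h1 h2 a
  refine ⟨h, ⟨hh, fun x hx1 => ?_, fun x hx1 => ?_⟩, hx⟩
  · rw [hx, A.f_M₁ hx1 hm, zero_smul, zero_add]
    exact add_mem hx1 (Submodule.smul_mem _ _ (Submodule.smul_mem _ _ hm))
  · rw [hx, A.f_M₂ hx1 hφ, zero_smul, add_zero]
    exact add_mem hx1 (Submodule.smul_mem _ _ (Submodule.smul_mem _ _ hφ))

/-- **`J` is the full unipotent radical** of the stabiliser of `e` in the group of all isometries preserving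
`M₁` and `M₂`. -/
theorem J_full {g : M ≃ₗ[F] M} (hs : ∀ m, D.s (g m) = D.s m) (h₁ : ∀ m ∈ A.M₁, g m ∈ A.M₁)
    (h₂ : ∀ m ∈ A.M₂, g m ∈ A.M₂) (he₁ : g D.e₁ = D.e₁) (he₂ : g D.e₂ = D.e₂)
    (hP : ∀ m, D.f D.e₁ m = 0 → D.f D.e₂ m = 0 → g m - m ∈ D.E 1) : g ∈ D.J := by
  have hf : ∀ x y, D.f (g x) (g y) = D.f x y := by
    intro x y
    have h := D.s_add (g x) (g y)
    rw [← map_add, hs, hs, hs, D.s_add] at h
    linear_combination -h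
  obtain ⟨j, hj, hj1, hj2⟩ := D.Jall (D.y₁ (A.pr (g A.c₁))) (D.y₂ (A.pr (g A.c₂)))
  have hjH := D.J_le hj
  obtain ⟨a1, a2, a3⟩ := A.J_c₁ hj
  obtain ⟨b1, b2, b3⟩ := A.J_c₂ hj
  have g1 : D.f (g A.c₁) D.e₂ = 1 := by
    conv_lhs => rw [← he₂]
    rw [hf, A.f12]
  have g2 : D.f (g A.c₂) D.e₁ = 1 := by
    conv_lhs => rw [← he₁]
    rw [hf, A.f21]
  have g3 : D.f (g A.c₁) (g A.c₂) = 0 := by rw [hf, A.fc]
  obtain ⟨a, ha⟩ : ∃ a : F, g A.c₁ = j A.c₁ + a • D.e₁ := by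
    have hd : g A.c₁ - j A.c₁ ∈ A.M₁ := sub_mem (h₁ _ A.c₁_mem) a1
    have h3 := A.M₁_eq hd
    have h4 : A.pr (g A.c₁ - j A.c₁) = 0 := by
      refine A.U_eq_zero (A.inU_pr _) ?_ (A.mem_M₁.1 hd).2.2
      rw [map_sub, map_sub, a2, hj1, sub_self]
    have h5 : D.f (g A.c₁ - j A.c₁) D.e₂ = 0 := by
      rw [map_sub, LinearMap.sub_apply, g1, a3, sub_self]
    rw [h4, h5, zero_smul, add_zero, add_zero] at h3
    exact ⟨_, by rw [← h3]; abel⟩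
  obtain ⟨c, hc⟩ : ∃ c : F, g A.c₂ = j A.c₂ + c • D.e₂ := by
    have hd : g A.c₂ - j A.c₂ ∈ A.M₂ := sub_mem (h₂ _ A.c₂_mem) b1
    have h3 := A.swap.M₁_eq hd
    rw [A.pr_swap] at h3
    have h4 : A.pr (g A.c₂ - j A.c₂) = 0 := by
      refine A.U_eq_zero (A.inU_pr _) (A.mem_M₂.1 hd).2.2 ?_
      rw [map_sub, map_sub, b2, hj2, sub_self]
    have h5 : D.f (g A.c₂ - j A.c₂) D.e₁ = 0 := by
      rw [map_sub, LinearMap.sub_apply, g2, b3, sub_self]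
    have h6 : D.swap.f (g A.c₂ - j A.c₂) D.swap.e₂ = 0 := h5
    rw [h4, h6, zero_smul, add_zero, add_zero] at h3
    exact ⟨_, by rw [sub_eq_iff_eq_add'] at h3; exact h3⟩
  have hac : a = c := by
    have h3 : D.f (g A.c₁) (g A.c₂) = D.f (j A.c₁) (j A.c₂) + c * D.f (j A.c₁) D.e₂ +
        a * D.f D.e₁ (j A.c₂) + a * c * D.f D.e₁ D.e₂ := by
      rw [ha, hc]
      simp only [map_add, map_smul, LinearMap.add_apply, LinearMap.smul_apply, smul_eq_mul]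
      ring
    rw [g3, D.isomf hjH, A.fc, a3, D.f_symm D.e₁, b3, D.e_perp] at h3
    linear_combination -h3 - c * D.two
  obtain ⟨x, hx, hxm⟩ := D.Jn a
  have hc₁ : g A.c₁ = (j * x) A.c₁ := by
    rw [LinearEquiv.mul_apply, hxm, A.f11, A.f12, ha, zero_smul, zero_add, one_smul, map_add, map_smul,
      D.j_e₁ hj]
  have hc₂ : g A.c₂ = (j * x) A.c₂ := by
    rw [LinearEquiv.mul_apply, hxm, A.f21, A.f22, hc, ← hac, zero_smul, add_zero, one_smul, map_add, map_smul,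
      D.j_e₂ hj]
  -- on `U`
  have hU : ∀ u, A.InU u → g u = (j * x) u := by
    intro u hu
    have hPu := InU.inP A hu
    obtain ⟨p, q, hpq⟩ := D.mem_E_one.1 (hP u hPu.1 hPu.2)
    have h3 : g u = u + p • D.e₁ + q • D.e₂ := by rw [add_assoc, ← hpq]; abel
    have hq : q = D.b (D.χ₁ j) (D.y₂ u) := by
      have h4 := hf A.c₁ u
      have h5 : D.f (g A.c₁) D.e₁ = 0 := by
        conv_lhs => rw [← he₁]
        rw [hf, A.f11]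
      rw [D.f_symm A.c₁ u, hu.2.2.1, h3] at h4
      simp only [map_add, map_smul, smul_eq_mul, g1, h5, mul_zero, add_zero, mul_one] at h4
      rw [← A.f_pr hu, A.fy_U (A.inU_pr _) hu, (A.mem_M₁.1 (h₁ _ A.c₁_mem)).2.2, map_zero, add_zero, ← hj1] at h4
      linear_combination h4 - D.b (D.χ₁ j) (D.y₂ u) * D.two
    have hp : p = D.b (D.y₁ u) (D.χ₂ j) := by
      have h4 := hf A.c₂ u
      have h5 : D.f (g A.c₂) D.e₂ = 0 := by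
        conv_lhs => rw [← he₂]
        rw [hf, A.f22]
      rw [D.f_symm A.c₂ u, hu.2.2.2, h3] at h4
      simp only [map_add, map_smul, smul_eq_mul, g2, h5, mul_zero, add_zero, mul_one] at h4
      rw [← A.f_pr hu, A.fy_U (A.inU_pr _) hu, (A.mem_M₂.1 (h₂ _ A.c₂_mem)).2.2, map_zero,
        LinearMap.zero_apply, zero_add, ← hj2] at h4
      linear_combination h4 - D.b (D.y₁ u) (D.χ₂ j) * D.two
    rw [LinearEquiv.mul_apply, hxm, hu.1, hu.2.1, zero_smul, zero_smul, add_zero, smul_zero, add_zero,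
      D.JP j hj u hPu.1 hPu.2, h3, hp, hq]
  have hgj : g = j * x := by
    ext m
    rw [A.eq_add m]
    have h5 : (j * x) D.e₁ = D.e₁ := D.j_e₁ (D.J.mul_mem hj hx)
    have h6 : (j * x) D.e₂ = D.e₂ := D.j_e₂ (D.J.mul_mem hj hx)
    simp only [map_add, map_smul, he₁, he₂, hc₁, hc₂, hU _ (A.inU_pr m), h5, h6]
  rw [hgj]
  exact D.J.mul_mem hj hx

end Fr

/-- **The output of THEOREM SL.** -/
structure Out (D : Spl F M Φ₁ Φ₂) (M₁ M₂ : Submodule F M) : Prop where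
  isCompl : IsCompl M₁ M₂
  sing₁ : ∀ m ∈ M₁, D.s m = 0
  sing₂ : ∀ m ∈ M₂, D.s m = 0
  e₁_mem : D.e₁ ∈ M₁
  e₂_mem : D.e₂ ∈ M₂
  dual₁ : ∀ m ∈ M₁, (∀ φ ∈ M₂, D.f m φ = 0) → m = 0
  dual₂ : ∀ φ ∈ M₂, (∀ m ∈ M₁, D.f φ m = 0) → φ = 0
  /-- `H` permutes `{M₁, M₂}` -/
  perm : ∀ g ∈ D.H, ((∀ m ∈ M₁, g m ∈ M₁) ∧ ∀ m ∈ M₂, g m ∈ M₂) ∨
    ((∀ m ∈ M₁, g m ∈ M₂) ∧ ∀ m ∈ M₂, g m ∈ M₁)
  /-- all transvections of `SL(M₁)` are in `H` -/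
  trans : ∀ m ∈ M₁, ∀ φ ∈ M₂, D.f m φ = 0 → ∀ a : F, ∃ h ∈ D.H, ∀ x,
    h x = x + a • (D.f x m • φ + D.f x φ • m)
  /-- the conjugates of `e` are the incident pairs -/
  conj : ∀ g ∈ D.H, ∃ m ∈ M₁, ∃ φ ∈ M₂, m ≠ 0 ∧ φ ≠ 0 ∧ D.f m φ = 0 ∧
    D.E g = Submodule.span F {m, φ}
  /-- the subgroup of `H` preserving `M₁` and `M₂` is transitive on the incident pairs -/
  orbit : ∀ m ∈ M₁, ∀ φ ∈ M₂, m ≠ 0 → φ ≠ 0 → D.f m φ = 0 → ∃ g ∈ D.H,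
    ((∀ m ∈ M₁, g m ∈ M₁) ∧ ∀ m ∈ M₂, g m ∈ M₂) ∧
      ∃ a c : F, a ≠ 0 ∧ c ≠ 0 ∧ g D.e₁ = a • m ∧ g D.e₂ = c • φ
  /-- `J` is the full unipotent radical of the stabiliser of `e` -/
  J_full : ∀ g : M ≃ₗ[F] M, (∀ m, D.s (g m) = D.s m) → (∀ m ∈ M₁, g m ∈ M₁) → (∀ m ∈ M₂, g m ∈ M₂) →
    g D.e₁ = D.e₁ → g D.e₂ = D.e₂ → (∀ m, D.f D.e₁ m = 0 → D.f D.e₂ m = 0 → g m - m ∈ D.E 1) → g ∈ D.J

theorem E_eq_span {k : M ≃ₗ[F] M} : D.E k = Submodule.span F {k D.e₁, k D.e₂} := rfl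

variable (D)

/-- **THEOREM SL** (bb #14483): `M = M₁ ⊕ M₂`, both totally singular, `H` permutes `{M₁, M₂}` and contains `SL(M₁)`. -/
theorem main : ∃ M₁ M₂ : Submodule F M, Out D M₁ M₂ := by
  obtain ⟨A⟩ := D.exists_fr
  refine ⟨A.M₁, A.M₂, A.isCompl, fun m => A.s_M₁, fun m => A.s_M₂, A.e₁_mem, A.e₂_mem,
    fun m => A.dual₁, fun m => A.dual₂, fun g hg => ?_, fun m hm φ hφ h0 a => ?_, fun g hg => ?_,
    fun m hm φ hφ h1 h2 h3 => ?_, fun g hs h1 h2 h3 h4 h5 => A.J_full hs h1 h2 h3 h4 h5⟩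
  · rcases A.perm hg with h | h
    · exact Or.inl h.2
    · exact Or.inr h
  · obtain ⟨h, hh, hx⟩ := A.trans hm hφ h0 a
    exact ⟨h, hh.1, hx⟩
  · obtain ⟨k, hk, hE⟩ := A.conj hg
    refine ⟨k D.e₁, hk.2.1 _ A.e₁_mem, k D.e₂, hk.2.2 _ A.e₂_mem, ?_, ?_, ?_, hE⟩
    · simpa using D.e₁_ne
    · simpa using D.e₂_ne
    · rw [D.isomf hk.1, D.e_perp]
  · obtain ⟨g, hg, a, c, h4⟩ := A.orbit hm hφ h1 h2 h3
    exact ⟨g, hg.1, hg.2, a, c, h4⟩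

end Spl

end Cfsg.Agent.Omega.NOne.SL
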