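import Cfsg.Agent.Omega.NOne.SL.Pos

/-!
# THEOREM SL, section 3: opposite conjugates, the decomposition `M = M₁ ⊕ M₂`
-/

set_option autoImplicit false

namespace Cfsg.Agent.Omega.NOne.SL

namespace Spl

variable {F M Φ₁ Φ₂ : Type*} [Field F] [AddCommGroup M] [Module F M] [AddCommGroup Φ₁]
    [Module F Φ₁] [AddCommGroup Φ₂] [Module F Φ₂] (D : Spl F M Φ₁ Φ₂)

/-- `g e` is opposite to `e`. -/
def Opp (g : M ≃ₗ[F] M) : Prop :=
  ∃ c₁ ∈ D.E g, ∃ c₂ ∈ D.E g, D.f c₁ D.e₁ = 0 ∧ D.f c₁ D.e₂ = 1 ∧ D.f c₂ D.e₁ = 1 ∧ D.f c₂ D.e₂ = 0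

theorem Opp.of_swap {g : M ≃ₗ[F] M} (h : D.swap.Opp g) : D.Opp g := by
  obtain ⟨c₁, h1, c₂, h2, h3, h4, h5, h6⟩ := h
  rw [E_swap] at h1 h2
  exact ⟨c₂, h2, c₁, h1, h6, h5, h4, h3⟩

theorem opp_of_det {g : M ≃ₗ[F] M} {x y u v : M} (hx : x ∈ D.E g) (hy : y ∈ D.E g)
    (hu : u ∈ D.E 1) (hv : v ∈ D.E 1) (h : D.f x u * D.f y v + D.f x v * D.f y u ≠ 0) : D.Opp g := by
  obtain ⟨α, β, rfl⟩ := D.mem_E_one.1 hu
  obtain ⟨γ, δ, rfl⟩ := D.mem_E_one.1 hv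
  set d := D.f x D.e₁ * D.f y D.e₂ + D.f x D.e₂ * D.f y D.e₁ with hd
  have hd0 : d ≠ 0 := by
    intro h0
    apply h
    simp only [map_add, map_smul, smul_eq_mul]
    linear_combination (α * δ + β * γ) * h0 + (α * γ * D.f x D.e₁ * D.f y D.e₁ +
      β * δ * D.f x D.e₂ * D.f y D.e₂) * D.two
  refine ⟨d⁻¹ • (D.f y D.e₁ • x + D.f x D.e₁ • y), ?_, d⁻¹ • (D.f y D.e₂ • x + D.f x D.e₂ • y), ?_, ?_, ?_, ?_, ?_⟩
  · exact Submodule.smul_mem _ _ (add_mem (Submodule.smul_mem _ _ hx) (Submodule.smul_mem _ _ hy))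
  · exact Submodule.smul_mem _ _ (add_mem (Submodule.smul_mem _ _ hx) (Submodule.smul_mem _ _ hy))
  · rw [D.f_smul_left, D.f_add_left, D.f_smul_left, D.f_smul_left]
    rw [mul_comm (D.f y D.e₁), D.dbl, mul_zero]
  · rw [D.f_smul_left, D.f_add_left, D.f_smul_left, D.f_smul_left]
    rw [show D.f y D.e₁ * D.f x D.e₂ + D.f x D.e₁ * D.f y D.e₂ = d by rw [hd]; ring, inv_mul_cancel₀ hd0]
  · rw [D.f_smul_left, D.f_add_left, D.f_smul_left, D.f_smul_left]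
    rw [show D.f y D.e₂ * D.f x D.e₁ + D.f x D.e₂ * D.f y D.e₁ = d by rw [hd]; ring, inv_mul_cancel₀ hd0]
  · rw [D.f_smul_left, D.f_add_left, D.f_smul_left, D.f_smul_left]
    rw [mul_comm (D.f y D.e₂), D.dbl, mul_zero]

theorem j_e₁ {j : M ≃ₗ[F] M} (hj : j ∈ D.J) : j D.e₁ = D.e₁ := by
  have h := D.JP j hj D.e₁ (D.f_self _) D.e_perp'
  rw [D.y_e₁.1, D.y_e₁.2] at h
  simpa using h

theorem j_e₂ {j : M ≃ₗ[F] M} (hj : j ∈ D.J) : j D.e₂ = D.e₂ := by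
  have h := D.JP j hj D.e₂ D.e_perp (D.f_self _)
  rw [D.y_e₂.1, D.y_e₂.2] at h
  simpa using h

/-- nonzero elements of `Φ₂` are detected by the pairing -/
theorem exists_b₁ {y : Φ₂} (hy : y ≠ 0) : ∃ x, D.b x y = 1 := by
  by_contra hcon
  push Not at hcon
  apply hy
  refine D.b_right y fun x => ?_
  by_contra h0
  refine hcon ((D.b x y)⁻¹ • x) ?_
  rw [map_smul, LinearMap.smul_apply, smul_eq_mul, inv_mul_cancel₀ h0]

theorem exists_b₂ {x : Φ₁} (hx : x ≠ 0) : ∃ y, D.b x y = 1 := by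
  obtain ⟨y, hy⟩ := D.swap.exists_b₁ hx
  exact ⟨y, hy⟩

theorem opp_aux {g : M ≃ₗ[F] M} (hg : g ∈ D.H) {p u : M} (hp : p ∈ D.E g) (hu : u ∈ D.E g)
    (hpP : D.InP p) (hp1 : p ∉ D.E 1) (h1 : D.f D.e₂ u ≠ 0) (h2 : D.y₁ p = 0) :
    ∃ g' ∈ D.H, D.Opp g' := by
  have hy : D.y₂ p ≠ 0 := fun h3 => hp1 (D.mem_E_one.2 (D.y_ker p hpP.1 hpP.2 h2 h3))
  obtain ⟨x, hx⟩ := D.exists_b₁ hy
  obtain ⟨j, hj, hj1, hj2⟩ := D.Jall x 0
  have hjH := D.J_le hj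
  have hjp : j p = p + D.e₂ := by
    rw [D.JP j hj p hpP.1 hpP.2, h2, hj1, hj2, hx]
    simp
  have hjp' : j (p + D.e₂) = p := by
    rw [map_add, hjp, D.j_e₂ hj, add_assoc, D.dblM, add_zero]
  have hgi := D.H.inv_mem hg
  have hpu : D.f p u = 0 := D.E_perp hg hp hu
  refine ⟨g⁻¹ * (j * g), D.H.mul_mem hgi (D.H.mul_mem hjH hg), ?_⟩
  have e1 : g⁻¹ p ∈ D.E 1 := by
    have := D.map_mem_E (w := g⁻¹) hp
    rwa [inv_mul_cancel] at this
  have e2 : g⁻¹ u ∈ D.E 1 := by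
    have := D.map_mem_E (w := g⁻¹) hu
    rwa [inv_mul_cancel] at this
  have e3 : g⁻¹ (j p) ∈ D.E (g⁻¹ * (j * g)) := D.map_mem_E (D.map_mem_E hp)
  have e4 : g⁻¹ (j u) ∈ D.E (g⁻¹ * (j * g)) := D.map_mem_E (D.map_mem_E hu)
  refine D.opp_of_det e3 e4 e1 e2 ?_
  rw [D.isomf hgi, D.isomf hgi, D.isomf hgi, D.isomf hgi]
  have h3 : D.f (j p) p = 0 := by
    rw [hjp, D.f_add_left, D.f_self, hpP.2, add_zero]
  have h4 : D.f (j p) u = D.f D.e₂ u := by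
    rw [hjp, D.f_add_left, hpu, zero_add]
  have h5 : D.f (j u) p = D.f D.e₂ u := by
    rw [← hjp', D.isomf hjH, map_add, D.f_symm u p, hpu, zero_add, D.f_symm]
  rw [h3, h4, h5, zero_mul, zero_add]
  exact mul_ne_zero h1 h1

theorem InP_swap {m : M} : D.swap.InP m ↔ D.InP m := and_comm

/-- **Opposite conjugates exist.** -/
theorem exists_opp : ∃ g ∈ D.H, D.Opp g := by
  -- a conjugate not perpendicular to `e`
  obtain ⟨g, hg, w, hw, hwP⟩ : ∃ g ∈ D.H, ∃ w ∈ D.E g, ¬ D.InP w := by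
    by_contra hcon
    push Not at hcon
    have h1 := D.Om (LinearMap.ker (D.f D.e₁) ⊓ LinearMap.ker (D.f D.e₂)) (fun g hg => by
      have a1 := hcon g hg _ (D.mem_E.2 ⟨1, 0, by simp⟩ : g D.e₁ ∈ D.E g)
      have a2 := hcon g hg _ (D.mem_E.2 ⟨0, 1, by simp⟩ : g D.e₂ ∈ D.E g)
      simp only [Submodule.mem_inf, LinearMap.mem_ker]
      exact ⟨⟨a1.1, a1.2⟩, a2.1, a2.2⟩)
    apply D.e₁_ne
    refine D.nondeg _ fun m => ?_
    have h2 : m ∈ LinearMap.ker (D.f D.e₁) ⊓ LinearMap.ker (D.f D.e₂) := h1 ▸ Submodule.mem_top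
    exact h2.1
  have hx : g D.e₁ ∈ D.E g := D.mem_E.2 ⟨1, 0, by simp⟩
  have hy : g D.e₂ ∈ D.E g := D.mem_E.2 ⟨0, 1, by simp⟩
  set x := g D.e₁ with hxd
  set y := g D.e₂ with hyd
  by_cases hd : D.f x D.e₁ * D.f y D.e₂ + D.f x D.e₂ * D.f y D.e₁ = 0
  swap
  · exact ⟨g, hg, D.opp_of_det hx hy (D.mem_E_one.2 ⟨1, 0, by simp⟩) (D.mem_E_one.2 ⟨0, 1, by simp⟩) hd⟩
  -- the point of `g e` perpendicular to `e`
  obtain ⟨p, hp, hp0, hpP⟩ : ∃ p ∈ D.E g, p ≠ 0 ∧ D.InP p := by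
    have a1 : D.InP (D.f y D.e₁ • x + D.f x D.e₁ • y) := by
      constructor
      · rw [D.f_symm, D.f_add_left, D.f_smul_left, D.f_smul_left, mul_comm (D.f y D.e₁), D.dbl]
      · rw [D.f_symm, D.f_add_left, D.f_smul_left, D.f_smul_left]
        linear_combination hd
    have a2 : D.InP (D.f y D.e₂ • x + D.f x D.e₂ • y) := by
      constructor
      · rw [D.f_symm, D.f_add_left, D.f_smul_left, D.f_smul_left]
        linear_combination hd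
      · rw [D.f_symm, D.f_add_left, D.f_smul_left, D.f_smul_left, mul_comm (D.f y D.e₂), D.dbl]
    have b1 : D.f y D.e₁ • x + D.f x D.e₁ • y ∈ D.E g :=
      add_mem (Submodule.smul_mem _ _ hx) (Submodule.smul_mem _ _ hy)
    have b2 : D.f y D.e₂ • x + D.f x D.e₂ • y ∈ D.E g :=
      add_mem (Submodule.smul_mem _ _ hx) (Submodule.smul_mem _ _ hy)
    by_cases h1 : D.f y D.e₁ • x + D.f x D.e₁ • y = 0
    · by_cases h2 : D.f y D.e₂ • x + D.f x D.e₂ • y = 0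
      · exfalso
        have c1 := D.ind h1
        have c2 := D.ind h2
        apply hwP
        obtain ⟨a, c, rfl⟩ := D.mem_E.1 hw
        constructor
        · rw [D.f_symm, D.f_add_left, D.f_smul_left, D.f_smul_left, ← hxd, ← hyd, c1.1, c1.2]
          simp
        · rw [D.f_symm, D.f_add_left, D.f_smul_left, D.f_smul_left, ← hxd, ← hyd, c2.1, c2.2]
          simp
      · exact ⟨_, b2, h2, a2⟩
    · exact ⟨_, b1, h1, a1⟩
  have hp1 : p ∉ D.E 1 := fun h => hwP (D.p1 hg hp0 h hp hw)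
  have hpw : D.f p w = 0 := D.E_perp hg hp hw
  set l := D.f D.e₁ w with hl
  set k := D.f D.e₂ w with hk
  have hlk : l ≠ 0 ∨ k ≠ 0 := by
    by_contra hcon
    push Not at hcon
    exact hwP hcon
  obtain ⟨v, hv, hvm⟩ := D.root hg hp hw 1
  have hv1 : v D.e₁ = D.e₁ + l • p := by
    rw [hvm, hpP.1, ← hl]; simp
  have hv2 : v D.e₂ = D.e₂ + k • p := by
    rw [hvm, hpP.2, ← hk]; simp
  have hq : k • D.e₁ + l • D.e₂ ∈ D.E v := by
    refine D.mem_E.2 ⟨k, l, ?_⟩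
    rw [hv1, hv2]
    linear_combination (norm := module) -(k * l) • D.two • p
  have hq1 : k • D.e₁ + l • D.e₂ ∈ D.E 1 := D.mem_E_one.2 ⟨k, l, rfl⟩
  have hq0 : k • D.e₁ + l • D.e₂ ≠ 0 := by
    intro h
    have := D.e_ind _ _ h
    rcases hlk with h1 | h1
    · exact h1 this.2
    · exact h1 this.1
  have hnot : ∀ a : F, a ≠ 0 → ∀ e ∈ D.E 1, e + a • p ∉ D.E 1 := by
    intro a ha e he h
    apply hp1
    have h1 : a • p ∈ D.E 1 := by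
      have := sub_mem h he
      simpa using this
    have := Submodule.smul_mem _ a⁻¹ h1
    rwa [smul_smul, inv_mul_cancel₀ ha, one_smul] at this
  have he1 : D.e₁ ∈ D.E 1 := D.mem_E_one.2 ⟨1, 0, by simp⟩
  have he2 : D.e₂ ∈ D.E 1 := D.mem_E_one.2 ⟨0, 1, by simp⟩
  have key : ((∃ a : F, k • D.e₁ + l • D.e₂ = a • D.e₁) ∧ D.y₁ p = 0) ∨
      ((∃ a : F, k • D.e₁ + l • D.e₂ = a • D.e₂) ∧ D.y₂ p = 0) := by
    by_cases h1 : l = 0
    · have h2 : k ≠ 0 := hlk.resolve_left (not_not.2 h1)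
      rcases D.p2 hv hq0 hq1 hq (D.mem_E.2 ⟨0, 1, by simp⟩ : v D.e₂ ∈ D.E v)
        (by rw [hv2]; exact hnot k h2 _ he2) with ⟨a, ha, hb⟩ | ⟨a, ha, hb⟩
      · left
        rw [hv2, map_add, D.y_e₂.1, zero_add, map_smul, smul_eq_zero] at hb
        exact ⟨⟨a, ha⟩, hb.resolve_left h2⟩
      · right
        rw [hv2, map_add, D.y_e₂.2, zero_add, map_smul, smul_eq_zero] at hb
        exact ⟨⟨a, ha⟩, hb.resolve_left h2⟩
    · rcases D.p2 hv hq0 hq1 hq (D.mem_E.2 ⟨1, 0, by simp⟩ : v D.e₁ ∈ D.E v)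
        (by rw [hv1]; exact hnot l h1 _ he1) with ⟨a, ha, hb⟩ | ⟨a, ha, hb⟩
      · left
        rw [hv1, map_add, D.y_e₁.1, zero_add, map_smul, smul_eq_zero] at hb
        exact ⟨⟨a, ha⟩, hb.resolve_left h1⟩
      · right
        rw [hv1, map_add, D.y_e₁.2, zero_add, map_smul, smul_eq_zero] at hb
        exact ⟨⟨a, ha⟩, hb.resolve_left h1⟩
  rcases key with ⟨⟨a, ha⟩, hb⟩ | ⟨⟨a, ha⟩, hb⟩
  · have h1 := D.e_ind (k - a) l (by linear_combination (norm := module) ha)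
    exact D.opp_aux hg hp hw hpP hp1 (hlk.resolve_left (not_not.2 h1.2)) hb
  · have h1 := D.e_ind k (l - a) (by linear_combination (norm := module) ha)
    obtain ⟨g', hg', ho⟩ := D.swap.opp_aux (g := g) hg (p := p) (u := w) (by rw [E_swap]; exact hp)
      (by rw [E_swap]; exact hw) (D.InP_swap.2 hpP) (by rw [E_swap]; exact hp1)
      (hlk.resolve_right (not_not.2 h1.1)) hb
    exact ⟨g', hg', Opp.of_swap D ho⟩

end Spl

end Cfsg.Agent.Omega.NOne.SL
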