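import Cfsg.Agent.Omega.NOne.SL.Frm

/-!
# THEOREM SL, sections 4, 5: the orbit of `e`
-/

set_option autoImplicit false
set_option linter.unusedSimpArgs false

namespace Cfsg.Agent.Omega.NOne.SL

namespace Spl

variable {F M Φ₁ Φ₂ : Type*} [Field F] [AddCommGroup M] [Module F M] [AddCommGroup Φ₁]
    [Module F Φ₁] [AddCommGroup Φ₂] [Module F Φ₂] {D : Spl F M Φ₁ Φ₂}

theorem avoid_two {K : Submodule F M} {l k : M →ₗ[F] F} (hl : ∃ x ∈ K, l x ≠ 0) (hk : ∃ x ∈ K, k x ≠ 0) :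
    ∃ x ∈ K, l x ≠ 0 ∧ k x ≠ 0 := by
  obtain ⟨x, hx, h1⟩ := hl
  obtain ⟨y, hy, h2⟩ := hk
  by_cases h3 : k x = 0
  · by_cases h4 : l y = 0
    · refine ⟨x + y, add_mem hx hy, ?_, ?_⟩
      · rwa [map_add, h4, add_zero]
      · rwa [map_add, h3, zero_add]
    · exact ⟨y, hy, h4, h2⟩
  · exact ⟨x, hx, h1, h3⟩

namespace Fr

variable (A : D.Fr)

/-- two nonproportional elements of `M₁` are separated by `M₂`. -/
theorem sep₁ {x m : M} (hx : x ∈ A.M₁) (hm : m ∈ A.M₁) (h : ∀ c : F, x ≠ c • m) :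
    ∃ φ ∈ A.M₂, D.f m φ = 0 ∧ D.f x φ ≠ 0 := by
  by_contra hcon
  push Not at hcon
  by_cases hm0 : m = 0
  · apply h 0
    rw [zero_smul]
    refine A.dual₁ hx fun φ hφ => hcon φ hφ ?_
    rw [hm0, map_zero, LinearMap.zero_apply]
  · obtain ⟨φ₁, h1, h2⟩ : ∃ φ ∈ A.M₂, D.f m φ ≠ 0 := by
      by_contra hc
      push Not at hc
      exact hm0 (A.dual₁ hm hc)
    apply h (D.f x φ₁ * (D.f m φ₁)⁻¹)
    rw [← sub_eq_zero]
    refine A.dual₁ (sub_mem hx (Submodule.smul_mem _ _ hm)) fun ψ hψ => ?_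
    have h3 := hcon (ψ - (D.f m ψ * (D.f m φ₁)⁻¹) • φ₁) (sub_mem hψ (Submodule.smul_mem _ _ h1)) (by
      rw [map_sub, map_smul, smul_eq_mul, mul_assoc, inv_mul_cancel₀ h2, mul_one, sub_self])
    rw [map_sub, map_smul, smul_eq_mul] at h3
    rw [map_sub, LinearMap.sub_apply, map_smul, LinearMap.smul_apply, smul_eq_mul]
    linear_combination h3

theorem sep₂ {x m : M} (hx : x ∈ A.M₂) (hm : m ∈ A.M₂) (h : ∀ c : F, x ≠ c • m) :
    ∃ φ ∈ A.M₁, D.f m φ = 0 ∧ D.f x φ ≠ 0 := by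
  have := A.swap.sep₁ hx hm h
  rw [A.M₂_swap] at this
  exact this

/-- **Section 4 (a)**: `J` is transitive on the pairs opposite to `e`. -/
theorem orbit_opp {m φ : M} (hm : m ∈ A.M₁) (hφ : φ ∈ A.M₂) (h0 : D.f m φ = 0) (h1 : D.f m D.e₂ = 1)
    (h2 : D.f φ D.e₁ = 1) : ∃ g ∈ D.J, g A.c₁ = m ∧ g A.c₂ = φ := by
  obtain ⟨j, hj, hj1, hj2⟩ := D.Jall (D.y₁ (A.pr m)) (D.y₂ (A.pr φ))
  obtain ⟨a1, a2, a3⟩ := A.J_c₁ hj
  obtain ⟨b1, b2, b3⟩ := A.J_c₂ hj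
  have hjH := D.J_le hj
  obtain ⟨a, ha⟩ : ∃ a : F, m = j A.c₁ + a • D.e₁ := by
    have hd : m - j A.c₁ ∈ A.M₁ := sub_mem hm a1
    have h3 := A.M₁_eq hd
    have h4 : A.pr (m - j A.c₁) = 0 := by
      refine A.U_eq_zero (A.inU_pr _) ?_ (A.mem_M₁.1 hd).2.2
      rw [map_sub, map_sub, a2, hj1, sub_self]
    have h5 : D.f (m - j A.c₁) D.e₂ = 0 := by
      rw [map_sub, LinearMap.sub_apply, h1, a3, sub_self]
    rw [h4, h5, zero_smul, add_zero, add_zero] at h3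
    exact ⟨_, by rw [← h3]; abel⟩
  obtain ⟨c, hc⟩ : ∃ c : F, φ = j A.c₂ + c • D.e₂ := by
    have hd : φ - j A.c₂ ∈ A.M₂ := sub_mem hφ b1
    have h3 := A.swap.M₁_eq hd
    rw [A.pr_swap] at h3
    have h4 : A.pr (φ - j A.c₂) = 0 := by
      refine A.U_eq_zero (A.inU_pr _) (A.mem_M₂.1 hd).2.2 ?_
      rw [map_sub, map_sub, b2, hj2, sub_self]
    have h5 : D.f (φ - j A.c₂) D.e₁ = 0 := by
      rw [map_sub, LinearMap.sub_apply, h2, b3, sub_self]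
    have h6 : D.swap.f (φ - j A.c₂) D.swap.e₂ = 0 := h5
    rw [h4, h6, zero_smul, add_zero, add_zero] at h3
    exact ⟨_, by rw [sub_eq_iff_eq_add'] at h3; exact h3⟩
  have hac : a = c := by
    have h3 : D.f m φ = D.f (j A.c₁) (j A.c₂) + c * D.f (j A.c₁) D.e₂ + a * D.f D.e₁ (j A.c₂) +
        a * c * D.f D.e₁ D.e₂ := by
      rw [ha, hc]
      simp only [map_add, map_smul, LinearMap.add_apply, LinearMap.smul_apply, smul_eq_mul]
      ring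
    rw [h0, D.isomf hjH, A.fc, a3, D.f_symm D.e₁, b3, D.e_perp] at h3
    linear_combination -h3 - c * D.two
  obtain ⟨x, hx, hxm⟩ := D.Jn a
  refine ⟨j * x, D.J.mul_mem hj hx, ?_, ?_⟩
  · rw [LinearEquiv.mul_apply, hxm, A.f11, A.f12, ha, zero_smul, zero_add, one_smul, map_add, map_smul,
      D.j_e₁ hj]
  · rw [LinearEquiv.mul_apply, hxm, A.f21, A.f22, hc, ← hac, zero_smul, add_zero, one_smul, map_add, map_smul,
      D.j_e₂ hj]

/-- **Section 4 (a)** for `e` itself. -/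
theorem orbit_opp' {m φ : M} (hm : m ∈ A.M₁) (hφ : φ ∈ A.M₂) (h0 : D.f m φ = 0) (h1 : D.f m D.e₂ ≠ 0)
    (h2 : D.f φ D.e₁ ≠ 0) : ∃ g ∈ A.H0, ∃ a c : F, a ≠ 0 ∧ c ≠ 0 ∧ g D.e₁ = a • m ∧ g D.e₂ = c • φ := by
  obtain ⟨g, hg, hg1, hg2⟩ := A.orbit_opp (m := (D.f m D.e₂)⁻¹ • m) (φ := (D.f φ D.e₁)⁻¹ • φ)
    (Submodule.smul_mem _ _ hm) (Submodule.smul_mem _ _ hφ) (by
      simp only [map_smul, LinearMap.smul_apply, smul_eq_mul, h0, mul_zero]) (by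
      simp only [map_smul, LinearMap.smul_apply, smul_eq_mul, inv_mul_cancel₀ h1]) (by
      simp only [map_smul, LinearMap.smul_apply, smul_eq_mul, inv_mul_cancel₀ h2])
  obtain ⟨σ, hσ, s1, s2, -, -⟩ := A.exists_sigma
  refine ⟨g * σ, A.H0.mul_mem (A.J_le_H0 hg) hσ, _, _, inv_ne_zero h1, inv_ne_zero h2, ?_, ?_⟩
  · rw [LinearEquiv.mul_apply, s1, hg1]
  · rw [LinearEquiv.mul_apply, s2, hg2]

/-- **Section 4**: `H0` is transitive on the pairs `(⟨m⟩, ⟨φ⟩)` with `f m φ = 0`. -/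
theorem orbit {m φ : M} (hm : m ∈ A.M₁) (hφ : φ ∈ A.M₂) (hm0 : m ≠ 0) (hφ0 : φ ≠ 0) (h0 : D.f m φ = 0) :
    ∃ g ∈ A.H0, ∃ a c : F, a ≠ 0 ∧ c ≠ 0 ∧ g D.e₁ = a • m ∧ g D.e₂ = c • φ := by
  obtain ⟨m', hm', k1, k2⟩ : ∃ m' ∈ A.M₁, D.f φ m' ≠ 0 ∧ D.f D.e₂ m' ≠ 0 := by
    refine avoid_two ?_ ?_
    · by_contra hc
      push Not at hc
      exact hφ0 (A.dual₂ hφ hc)
    · by_contra hc
      push Not at hc
      exact D.e₂_ne (A.dual₂ A.e₂_mem hc)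
  have k3 : D.f m' φ ≠ 0 := by rwa [D.f_symm]
  have k4 : D.f m' D.e₂ ≠ 0 := by rwa [D.f_symm]
  obtain ⟨φ', hφ', l1, l2⟩ : ∃ φ' ∈ A.M₂ ⊓ LinearMap.ker (D.f m'), D.f m φ' ≠ 0 ∧ D.f D.e₁ φ' ≠ 0 := by
    refine avoid_two ?_ ?_
    · obtain ⟨ψ, h1, h2, h3⟩ := A.sep₁ hm hm' (fun c hc => by
        have h4 : c * D.f m' φ = 0 := by rw [← smul_eq_mul, ← LinearMap.smul_apply, ← map_smul, ← hc, h0]
        have h5 : c = 0 := (mul_eq_zero.1 h4).resolve_right k3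
        exact hm0 (by rw [hc, h5, zero_smul]))
      exact ⟨ψ, ⟨h1, h2⟩, h3⟩
    · obtain ⟨ψ, h1, h2, h3⟩ := A.sep₁ A.e₁_mem hm' (fun c hc => by
        have h4 : c * D.f m' D.e₂ = 0 := by
          rw [← smul_eq_mul, ← LinearMap.smul_apply, ← map_smul, ← hc, D.e_perp]
        have h5 : c = 0 := (mul_eq_zero.1 h4).resolve_right k4
        exact D.e₁_ne (by rw [hc, h5, zero_smul]))
      exact ⟨ψ, ⟨h1, h2⟩, h3⟩
  obtain ⟨g, hg, a, c, ha, hc, hg1, hg2⟩ := A.orbit_opp' hm' hφ'.1 hφ'.2 k4 (by rwa [D.f_symm])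
  have hgi := A.H0.inv_mem hg
  have hinv : ∀ v, g (g⁻¹ v) = v := fun v => g.apply_symm_apply v
  obtain ⟨g', hg', a', c', ha', hc', h1, h2⟩ := A.orbit_opp' (m := g⁻¹ m) (φ := g⁻¹ φ)
    (hgi.2.1 m hm) (hgi.2.2 φ hφ) (by rw [D.isomf hgi.1, h0]) (by
      rw [← D.isomf hg.1, hinv, hg2, map_smul, smul_eq_mul]
      exact mul_ne_zero hc l1) (by
      rw [← D.isomf hg.1, hinv, hg1, map_smul, smul_eq_mul]
      exact mul_ne_zero ha k1)
  refine ⟨g * g', A.H0.mul_mem hg hg', a', c', ha', hc', ?_, ?_⟩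
  · rw [LinearEquiv.mul_apply, h1, map_smul, hinv]
  · rw [LinearEquiv.mul_apply, h2, map_smul, hinv]

end Fr

/-! ### Positions relative to an arbitrary conjugate -/

theorem p1' {k g : M ≃ₗ[F] M} (hk : k ∈ D.H) (hg : g ∈ D.H) {p u v : M} (hp0 : p ≠ 0)
    (hp1 : p ∈ D.E k) (hp : p ∈ D.E g) (hu : u ∈ D.E g) (hv : v ∈ D.E k) : D.f u v = 0 := by
  have hki := D.H.inv_mem hk
  have h1 : k⁻¹ p ∈ D.E 1 := by
    have := D.map_mem_E (w := k⁻¹) hp1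
    rwa [inv_mul_cancel] at this
  have h2 : k⁻¹ v ∈ D.E 1 := by
    have := D.map_mem_E (w := k⁻¹) hv
    rwa [inv_mul_cancel] at this
  have h3 := D.p1 (D.H.mul_mem hki hg) (p := k⁻¹ p) (u := k⁻¹ u) (by simpa using hp0) h1
    (D.map_mem_E hp) (D.map_mem_E hu)
  rw [← D.isomf hki]
  exact D.perp_e h3 h2

theorem p2' {k g : M ≃ₗ[F] M} (hk : k ∈ D.H) (hg : g ∈ D.H) {p u : M} (hp0 : p ≠ 0)
    (hp1 : p ∈ D.E k) (hp : p ∈ D.E g) (hu : u ∈ D.E g) (hu1 : u ∉ D.E k) :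
    (∃ a : F, p = a • k D.e₁) ∨ ∃ a : F, p = a • k D.e₂ := by
  have hki := D.H.inv_mem hk
  have h1 : k⁻¹ p ∈ D.E 1 := by
    have := D.map_mem_E (w := k⁻¹) hp1
    rwa [inv_mul_cancel] at this
  have hinv : ∀ v, k (k⁻¹ v) = v := fun v => k.apply_symm_apply v
  rcases D.p2 (D.H.mul_mem hki hg) (p := k⁻¹ p) (u := k⁻¹ u) (by simpa using hp0) h1
    (D.map_mem_E hp) (D.map_mem_E hu) (fun h => hu1 (by
      have := D.map_mem_E (w := k) h
      rwa [mul_one, hinv] at this)) with ⟨a, ha, -⟩ | ⟨a, ha, -⟩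
  · left
    exact ⟨a, by rw [← map_smul, ← ha, hinv]⟩
  · right
    exact ⟨a, by rw [← map_smul, ← ha, hinv]⟩

theorem E_le_iff {g : M ≃ₗ[F] M} {N : Submodule F M} : D.E g ≤ N ↔ g D.e₁ ∈ N ∧ g D.e₂ ∈ N := by
  rw [E, Submodule.span_le, Set.insert_subset_iff, Set.singleton_subset_iff]
  rfl

theorem left_mem_E (g : M ≃ₗ[F] M) : g D.e₁ ∈ D.E g := D.mem_E.2 ⟨1, 0, by simp⟩

theorem right_mem_E (g : M ≃ₗ[F] M) : g D.e₂ ∈ D.E g := D.mem_E.2 ⟨0, 1, by simp⟩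

/-- two conjugates with `g e ≤ k e` are equal. -/
theorem E_eq_of_le {k g : M ≃ₗ[F] M} (h : D.E g ≤ D.E k) : D.E g = D.E k := by
  refine le_antisymm h ?_
  obtain ⟨α, β, h1⟩ := D.mem_E.1 (E_le_iff.1 h).1
  obtain ⟨γ, δ, h2⟩ := D.mem_E.1 (E_le_iff.1 h).2
  set x := k D.e₁ with hx
  set y := k D.e₂ with hy
  have hd : α * δ - β * γ ≠ 0 := by
    intro hd
    have e1 : δ • g D.e₁ + (-β) • g D.e₂ = 0 := by
      rw [h1, h2]
      linear_combination (norm := module) hd • x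
    have e2 : (-γ) • g D.e₁ + α • g D.e₂ = 0 := by
      rw [h1, h2]
      linear_combination (norm := module) hd • y
    have f1 := D.ind e1
    have f2 := D.ind e2
    have hα : α = 0 := f2.2
    have hβ : β = 0 := neg_eq_zero.1 f1.2
    have h3 : g D.e₁ = 0 := by rw [h1, hα, hβ]; simp
    exact D.e₁_ne (by simpa using h3)
  rw [E_le_iff]
  refine ⟨?_, ?_⟩
  · have e1 : x = (α * δ - β * γ)⁻¹ • (δ • g D.e₁ + (-β) • g D.e₂) := by
      rw [eq_inv_smul_iff₀ hd, h1, h2]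
      module
    rw [← hx, e1]
    exact Submodule.smul_mem _ _ (add_mem (Submodule.smul_mem _ _ (left_mem_E g))
      (Submodule.smul_mem _ _ (right_mem_E g)))
  · have e1 : y = (α * δ - β * γ)⁻¹ • ((-γ) • g D.e₁ + α • g D.e₂) := by
      rw [eq_inv_smul_iff₀ hd, h1, h2]
      module
    rw [← hy, e1]
    exact Submodule.smul_mem _ _ (add_mem (Submodule.smul_mem _ _ (left_mem_E g))
      (Submodule.smul_mem _ _ (right_mem_E g)))

namespace Fr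

variable (A : D.Fr)

theorem not_le_M₁ {g : M ≃ₗ[F] M} (hg : g ∈ D.H) : ¬ D.E g ≤ A.M₁ := by
  intro h
  have hx := (E_le_iff.1 h).1
  have hy := (E_le_iff.1 h).2
  have hx0 : g D.e₁ ≠ 0 := by simpa using D.e₁_ne
  obtain ⟨φ, hφ, h1, h2⟩ := A.sep₁ hy hx (fun c hc => by
    have h3 := D.ind (g := g) (a := c) (c := -1) (by rw [← hc]; module)
    have h4 := h3.2
    rw [neg_eq_zero] at h4
    exact one_ne_zero h4)
  have hφ0 : φ ≠ 0 := by
    rintro rfl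
    exact h2 (map_zero _)
  obtain ⟨k, hk, a, c, ha, hc, k1, k2⟩ := A.orbit hx hφ hx0 hφ0 h1
  apply h2
  refine p1' hk.1 hg hx0 ?_ (left_mem_E g) (right_mem_E g) ?_
  · rw [← inv_smul_smul₀ ha (g D.e₁), ← k1]
    exact Submodule.smul_mem _ _ (left_mem_E k)
  · rw [← inv_smul_smul₀ hc φ, ← k2]
    exact Submodule.smul_mem _ _ (right_mem_E k)

theorem not_le_M₂ {g : M ≃ₗ[F] M} (hg : g ∈ D.H) : ¬ D.E g ≤ A.M₂ := by
  have := A.swap.not_le_M₁ (g := g) hg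
  rwa [E_swap] at this

/-- **Section 5**: every conjugate of `e` is an incident pair. -/
theorem conj {g : M ≃ₗ[F] M} (hg : g ∈ D.H) : ∃ k ∈ A.H0, D.E g = D.E k := by
  by_cases hc : ∃ x ∈ D.E g, ∃ x₁ ∈ A.M₁, ∃ x₂ ∈ A.M₂, x₁ ≠ 0 ∧ x₂ ≠ 0 ∧ x = x₁ + x₂
  · obtain ⟨x, hx, x₁, h1, x₂, h2, h3, h4, rfl⟩ := hc
    have h5 : D.f x₁ x₂ = 0 := by
      have := D.E_sing hg hx
      rw [D.s_add, A.s_M₁ h1, A.s_M₂ h2, zero_add, zero_add] at this
      exact this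
    obtain ⟨k, hk, a, c, ha, hc, k1, k2⟩ := A.orbit h1 h2 h3 h4 h5
    refine ⟨k, hk, E_eq_of_le ?_⟩
    intro u hu
    by_contra hu1
    have h6 : x₁ + x₂ ∈ D.E k := by
      refine add_mem ?_ ?_
      · rw [← inv_smul_smul₀ ha x₁, ← k1]
        exact Submodule.smul_mem _ _ (left_mem_E k)
      · rw [← inv_smul_smul₀ hc x₂, ← k2]
        exact Submodule.smul_mem _ _ (right_mem_E k)
    have h7 : x₁ + x₂ ≠ 0 := by
      intro h
      apply h3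
      refine (Submodule.disjoint_def.1 A.isCompl.disjoint) _ h1 ?_
      rw [eq_neg_of_add_eq_zero_left h]
      exact neg_mem h2
    rcases p2' hk.1 hg h7 h6 hx hu hu1 with ⟨b, hb⟩ | ⟨b, hb⟩
    · apply h4
      refine (Submodule.disjoint_def.1 A.isCompl.disjoint) _ ?_ h2
      have : x₂ = b • k D.e₁ - x₁ := by rw [← hb]; abel
      rw [this, k1]
      exact sub_mem (Submodule.smul_mem _ _ (Submodule.smul_mem _ _ h1)) h1
    · apply h3
      refine (Submodule.disjoint_def.1 A.isCompl.disjoint) _ h1 ?_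
      have : x₁ = b • k D.e₂ - x₂ := by rw [← hb]; abel
      rw [this, k2]
      exact sub_mem (Submodule.smul_mem _ _ (Submodule.smul_mem _ _ h2)) h2
  · exfalso
    push Not at hc
    have key : ∀ x ∈ D.E g, x ∈ A.M₁ ∨ x ∈ A.M₂ := by
      intro x hx
      have h1 : x ∈ A.M₁ ⊔ A.M₂ := by rw [A.isCompl.sup_eq_top]; trivial
      obtain ⟨x₁, h2, x₂, h3, h4⟩ := Submodule.mem_sup.1 h1
      by_cases h5 : x₁ = 0
      · right
        rw [← h4, h5, zero_add]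
        exact h3
      · left
        have h6 : x₂ = 0 := by
          by_contra h6
          exact hc x hx x₁ h2 x₂ h3 h5 h6 h4.symm
        rw [← h4, h6, add_zero]
        exact h2
    by_cases h1 : D.E g ≤ A.M₁
    · exact A.not_le_M₁ hg h1
    · refine A.not_le_M₂ hg ?_
      obtain ⟨x, hx, hx1⟩ := Set.not_subset.1 h1
      have hx2 := (key x hx).resolve_left hx1
      intro y hy
      by_contra hy2
      have hy1 := (key y hy).resolve_right hy2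
      rcases key (x + y) (add_mem hx hy) with h | h
      · exact hx1 (by
          have := sub_mem h hy1
          rwa [add_sub_cancel_right] at this)
      · exact hy2 (by
          have := sub_mem h hx2
          rwa [add_sub_cancel_left] at this)

end Fr

end Spl

end Cfsg.Agent.Omega.NOne.SL
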