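import Cfsg.Agent.Omega.NOne.SL.Defs

/-!
# THEOREM SL, sections 1, 2: positions and opposite conjugates
-/

set_option autoImplicit false

namespace Cfsg.Agent.Omega.NOne.SL

namespace Spl

variable {F M Φ₁ Φ₂ : Type*} [Field F] [AddCommGroup M] [Module F M] [AddCommGroup Φ₁]
    [Module F Φ₁] [AddCommGroup Φ₂] [Module F Φ₂] (D : Spl F M Φ₁ Φ₂)

include D

theorem dbl (a : F) : a + a = 0 := by
  rw [← two_mul, D.two, zero_mul]

theorem dblM (m : M) : m + m = 0 := by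
  rw [← two_smul F m, D.two, zero_smul]

theorem neg_eq (a : F) : -a = a := by
  rw [neg_eq_iff_add_eq_zero, D.dbl]

theorem negM (m : M) : -m = m := by
  rw [neg_eq_iff_add_eq_zero, D.dblM]

theorem subM (m n : M) : m - n = m + n := by
  rw [sub_eq_add_neg, D.negM]

theorem s_zero : D.s 0 = 0 := by
  have := D.s_smul 0 0
  simpa using this

theorem f_self (m : M) : D.f m m = 0 := by
  have h := D.s_add m m
  rw [D.dblM, D.s_zero, D.dbl, zero_add] at h
  exact h.symm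

theorem f_symm (x y : M) : D.f x y = D.f y x := by
  have h := D.s_add x y
  have h' := D.s_add y x
  rw [add_comm y x, h] at h'
  linear_combination h'

theorem isomf {g : M ≃ₗ[F] M} (hg : g ∈ D.H) (x y : M) : D.f (g x) (g y) = D.f x y := by
  have h := D.s_add (g x) (g y)
  rw [← map_add, D.isom g hg, D.isom g hg, D.isom g hg, D.s_add] at h
  linear_combination -h

theorem e_perp' : D.f D.e₂ D.e₁ = 0 := by rw [D.f_symm, D.e_perp]

/-- swapping the two halves -/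
@[simps] def swap : Spl F M Φ₂ Φ₁ where
  two := D.two
  four := D.four
  f := D.f
  s := D.s
  s_add := D.s_add
  s_smul := D.s_smul
  nondeg := D.nondeg
  H := D.H
  isom := D.isom
  b := D.b.flip
  b_left := fun x h => D.b_right x fun y => h y
  b_right := fun y h => D.b_left y fun x => h x
  e₁ := D.e₂
  e₂ := D.e₁
  e_ind := fun a c h => (D.e_ind c a (by rw [add_comm]; exact h)).symm
  s₁ := D.s₂
  s₂ := D.s₁
  e_perp := D.e_perp'
  y₁ := D.y₂
  y₂ := D.y₁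
  y_surj := fun x₁ x₂ => by
    obtain ⟨m, h1, h2, h3, h4⟩ := D.y_surj x₂ x₁
    exact ⟨m, h2, h1, h4, h3⟩
  y_e₁ := D.y_e₂.symm
  y_e₂ := D.y_e₁.symm
  y_ker := fun m h1 h2 h3 h4 => by
    obtain ⟨a, c, h⟩ := D.y_ker m h2 h1 h4 h3
    exact ⟨c, a, by rw [h, add_comm]⟩
  sy := fun m h1 h2 => D.sy m h2 h1
  J := D.J
  J_le := D.J_le
  χ₁ := D.χ₂
  χ₂ := D.χ₁
  JP := fun j hj m h1 h2 => by
    rw [D.JP j hj m h2 h1, LinearMap.flip_apply, LinearMap.flip_apply]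
    abel
  JM := fun j hj m => (D.JM j hj m).symm
  Jall := fun x₁ x₂ => by
    obtain ⟨j, hj, h1, h2⟩ := D.Jall x₂ x₁
    exact ⟨j, hj, h2, h1⟩
  Jn := fun a => by
    obtain ⟨j, hj, h⟩ := D.Jn a
    refine ⟨j, hj, fun m => ?_⟩
    rw [h m, add_comm (D.f m D.e₁ • D.e₂)]
  Jmax := fun g hg h1 h2 h3 h4 => D.Jmax g hg h2 h1 (fun m h5 h6 => by
    obtain ⟨a, c, h⟩ := h3 m h6 h5
    exact ⟨c, a, by rw [h, add_comm]⟩) fun m => (h4 m).symm
  Se := fun g hg h1 h2 => by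
    have h3 : ∃ a c : F, g D.e₁ = a • D.e₁ + c • D.e₂ := by
      obtain ⟨a, c, h⟩ := h2
      exact ⟨c, a, by rw [h, add_comm]⟩
    have h4 : ∃ a c : F, g D.e₂ = a • D.e₁ + c • D.e₂ := by
      obtain ⟨a, c, h⟩ := h1
      exact ⟨c, a, by rw [h, add_comm]⟩
    rcases D.Se g hg h3 h4 with ⟨h5, h6⟩ | ⟨h5, h6⟩
    · exact Or.inl ⟨h6, h5⟩
    · exact Or.inr ⟨h6, h5⟩
  Om := fun N h => D.Om N fun g hg => (h g hg).symm

/-- the conjugate `g e` -/
def E (g : M ≃ₗ[F] M) : Submodule F M := Submodule.span F {g D.e₁, g D.e₂}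

theorem mem_E {g : M ≃ₗ[F] M} {v : M} : v ∈ D.E g ↔ ∃ a c : F, v = a • g D.e₁ + c • g D.e₂ := by
  rw [E, Submodule.mem_span_pair]
  constructor
  · rintro ⟨a, c, h⟩; exact ⟨a, c, h.symm⟩
  · rintro ⟨a, c, h⟩; exact ⟨a, c, h.symm⟩

theorem mem_E_one {v : M} : v ∈ D.E 1 ↔ ∃ a c : F, v = a • D.e₁ + c • D.e₂ := D.mem_E

theorem E_swap (g : M ≃ₗ[F] M) : D.swap.E g = D.E g := by
  rw [E, E, Set.pair_comm]
  rfl

theorem map_mem_E {g v} {w : M ≃ₗ[F] M} (h : v ∈ D.E g) : w v ∈ D.E (w * g) := by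
  obtain ⟨a, c, rfl⟩ := D.mem_E.1 h
  refine D.mem_E.2 ⟨a, c, ?_⟩
  simp

theorem E_perp {g : M ≃ₗ[F] M} (hg : g ∈ D.H) {x y : M} (hx : x ∈ D.E g) (hy : y ∈ D.E g) :
    D.f x y = 0 := by
  obtain ⟨a, c, rfl⟩ := D.mem_E.1 hx
  obtain ⟨a', c', rfl⟩ := D.mem_E.1 hy
  simp only [map_add, map_smul, LinearMap.add_apply, LinearMap.smul_apply, smul_eq_mul, D.isomf hg,
    D.f_self, D.e_perp, D.e_perp']
  ring

theorem E_sing {g : M ≃ₗ[F] M} (hg : g ∈ D.H) {x : M} (hx : x ∈ D.E g) : D.s x = 0 := by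
  obtain ⟨a, c, rfl⟩ := D.mem_E.1 hx
  rw [D.s_add, D.s_smul, D.s_smul, D.isom g hg, D.isom g hg, D.s₁, D.s₂]
  simp only [map_smul, LinearMap.smul_apply, smul_eq_mul, D.isomf hg, D.e_perp]
  ring

/-- independence of `g e₁`, `g e₂` -/
theorem ind {g : M ≃ₗ[F] M} {a c : F} (h : a • g D.e₁ + c • g D.e₂ = 0) : a = 0 ∧ c = 0 := by
  apply D.e_ind
  apply g.injective
  simpa using h

theorem e₁_ne : D.e₁ ≠ 0 := by
  intro h
  have := (D.e_ind 1 0 (by simp [h])).1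
  exact one_ne_zero this

theorem e₂_ne : D.e₂ ≠ 0 := by
  intro h
  have := (D.e_ind 0 1 (by simp [h])).2
  exact one_ne_zero this

/-- `P = e^⊥` -/
def InP (m : M) : Prop := D.f D.e₁ m = 0 ∧ D.f D.e₂ m = 0

theorem fy {m m' : M} (hm : D.InP m) (hm' : D.InP m') :
    D.f m m' = D.b (D.y₁ m) (D.y₂ m') + D.b (D.y₁ m') (D.y₂ m) := by
  have h := D.sy (m + m') (by rw [map_add, hm.1, hm'.1, add_zero]) (by
    rw [map_add, hm.2, hm'.2, add_zero])
  rw [D.s_add, D.sy m hm.1 hm.2, D.sy m' hm'.1 hm'.2] at h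
  simp only [map_add, LinearMap.add_apply] at h
  linear_combination h

/-- the root elements of `g e` -/
theorem root {g : M ≃ₗ[F] M} (hg : g ∈ D.H) {p u : M} (hp : p ∈ D.E g) (hu : u ∈ D.E g) (a : F) :
    ∃ h ∈ D.H, ∀ m, h m = m + a • (D.f m p • u + D.f m u • p) := by
  obtain ⟨α, β, rfl⟩ := D.mem_E.1 hp
  obtain ⟨γ, δ, rfl⟩ := D.mem_E.1 hu
  obtain ⟨j, hj, hjm⟩ := D.Jn (a * (α * δ + β * γ))
  refine ⟨g * j * g⁻¹, D.H.mul_mem (D.H.mul_mem hg (D.J_le hj)) (D.H.inv_mem hg), fun m => ?_⟩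
  have h1 : ∀ v, D.f (g⁻¹ m) v = D.f m (g v) := by
    intro v
    rw [← D.isomf hg (g⁻¹ m) v]
    congr 2
    exact g.apply_symm_apply m
  have h2 : g (g⁻¹ m) = m := g.apply_symm_apply m
  rw [LinearEquiv.mul_apply, LinearEquiv.mul_apply, hjm, map_add, h2, map_smul, map_add, map_smul, map_smul, h1,
    h1]
  simp only [map_add, map_smul, smul_eq_mul]
  set X := D.f m (g D.e₁)
  set Y := D.f m (g D.e₂)
  set x := g D.e₁
  set y := g D.e₂
  linear_combination (norm := module) (-(a * X * α * γ)) • D.two • x - (a * Y * β * δ) • D.two • y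

theorem f_add_left (x y z : M) : D.f (x + y) z = D.f x z + D.f y z := by
  rw [map_add, LinearMap.add_apply]

theorem f_smul_left (a : F) (x z : M) : D.f (a • x) z = a * D.f x z := by
  rw [map_smul, LinearMap.smul_apply, smul_eq_mul]

/-- `P ⊥ e` -/
theorem perp_e {m p : M} (hm : D.InP m) (hp : p ∈ D.E 1) : D.f m p = 0 := by
  obtain ⟨a, c, rfl⟩ := D.mem_E_one.1 hp
  rw [map_add, map_smul, map_smul, D.f_symm m, D.f_symm m, hm.1, hm.2]
  simp

theorem E_one_le {p : M} (hp : p ∈ D.E 1) : D.InP p :=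
  ⟨D.E_perp D.H.one_mem (D.mem_E_one.2 ⟨1, 0, by simp⟩) hp,
    D.E_perp D.H.one_mem (D.mem_E_one.2 ⟨0, 1, by simp⟩) hp⟩

/-- **(P1)**: a conjugate of `e` meeting `e` is perpendicular to `e`. -/
theorem p1 {g : M ≃ₗ[F] M} (hg : g ∈ D.H) {p u : M} (hp0 : p ≠ 0) (hp1 : p ∈ D.E 1)
    (hp : p ∈ D.E g) (hu : u ∈ D.E g) : D.InP u := by
  obtain ⟨α, β, hpe⟩ := D.mem_E_one.1 hp1
  have hP := D.E_one_le hp1
  have hpu : D.f p u = 0 := D.E_perp hg hp hu
  set l := D.f D.e₁ u with hl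
  set k := D.f D.e₂ u with hk
  have h0 : α * l + β * k = 0 := by
    rw [hpe, D.f_add_left, D.f_smul_left, D.f_smul_left] at hpu
    exact hpu
  have hH : ∀ a : F, ∃ h ∈ D.H, h D.e₁ = (1 + a * l * α) • D.e₁ + (a * l * β) • D.e₂ ∧
      h D.e₂ = (a * k * α) • D.e₁ + (1 + a * k * β) • D.e₂ := by
    intro a
    obtain ⟨h, hh, hm⟩ := D.root hg hp hu a
    refine ⟨h, hh, ?_, ?_⟩
    · rw [hm, hP.1, ← hl, hpe]
      module
    · rw [hm, hP.2, ← hk, hpe]
      module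
  have key : ∀ a : F, a ≠ 0 → (l = 0 ∧ k = 0) ∨ 1 + a * l * α = 0 := by
    intro a ha
    obtain ⟨h, hh, h1, h2⟩ := hH a
    rcases D.Se h hh ⟨_, _, h1⟩ ⟨_, _, h2⟩ with ⟨⟨c, hc⟩, ⟨d, hd⟩⟩ | ⟨⟨c, hc⟩, -⟩
    · left
      have h3 := D.e_ind (1 + a * l * α - c) (a * l * β) (by
        rw [hc] at h1
        linear_combination (norm := module) -h1)
      have h4 := D.e_ind (a * k * α) (1 + a * k * β - d) (by
        rw [hd] at h2
        linear_combination (norm := module) -h2)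
      have h5 : l * β = 0 := by
        have := h3.2
        rw [mul_assoc] at this
        exact (mul_eq_zero.1 this).resolve_left ha
      have h6 : k * α = 0 := by
        have := h4.1
        rw [mul_assoc] at this
        exact (mul_eq_zero.1 this).resolve_left ha
      by_cases hα : α = 0
      · have hβ : β ≠ 0 := by
          rintro rfl
          apply hp0
          rw [hpe, hα]
          simp
        rw [hα, zero_mul, zero_add] at h0
        exact ⟨(mul_eq_zero.1 h5).resolve_right hβ, (mul_eq_zero.1 h0).resolve_left hβ⟩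
      · have hk0 : k = 0 := (mul_eq_zero.1 h6).resolve_right hα
        rw [hk0, mul_zero, add_zero] at h0
        exact ⟨(mul_eq_zero.1 h0).resolve_left hα, hk0⟩
    · right
      exact (D.e_ind (1 + a * l * α) (a * l * β - c) (by
        rw [hc] at h1
        linear_combination (norm := module) -h1)).1
  obtain ⟨a, ha, ha1⟩ := D.four
  rcases key 1 one_ne_zero with h1 | h1
  · exact h1
  rcases key a ha with h2 | h2
  · exact h2
  exfalso
  have h3 : (a + 1) * (l * α) = 0 := by linear_combination h1 + h2 - D.two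
  rcases mul_eq_zero.1 h3 with h4 | h4
  · apply ha1
    rw [← sub_eq_zero, sub_eq_add_neg, D.neg_eq, h4]
  · rw [one_mul, h4, add_zero] at h1
    exact one_ne_zero h1

/-- **(P2)**: if `g e ⊥ e` meets `e` in a point `p`, then `p` is one of the two distinguished points. -/
theorem p2 {g : M ≃ₗ[F] M} (hg : g ∈ D.H) {p u : M} (hp0 : p ≠ 0) (hp1 : p ∈ D.E 1)
    (hp : p ∈ D.E g) (hu : u ∈ D.E g) (hu1 : u ∉ D.E 1) :
    (∃ a : F, p = a • D.e₁ ∧ D.y₁ u = 0) ∨ (∃ a : F, p = a • D.e₂ ∧ D.y₂ u = 0) := by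
  obtain ⟨α, β, hpe⟩ := D.mem_E_one.1 hp1
  have hP := D.E_one_le hp1
  have hU : D.InP u := D.p1 hg hp0 hp1 hp hu
  obtain ⟨h, hh, hm⟩ := D.root hg hp hu 1
  have h1 : D.f D.e₁ p = 0 := hP.1
  have h2 : D.f D.e₂ p = 0 := hP.2
  have hj : h ∈ D.J := by
    refine D.Jmax h hh ?_ ?_ ?_ ?_
    · rw [hm, h1, hU.1]; simp
    · rw [hm, h2, hU.2]; simp
    · intro m h3 h4
      refine ⟨D.f m u * α, D.f m u * β, ?_⟩
      rw [hm, D.perp_e ⟨h3, h4⟩ hp1, hpe]
      module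
    · intro m
      have h3 : h m - m = D.f m p • u + D.f m u • p := by rw [hm]; module
      rw [h3]
      simp only [map_add, map_smul, smul_eq_mul, hP.1, hP.2, hU.1, hU.2]
      simp
  have key : ∀ m, D.InP m → α * D.f m u = D.b (D.y₁ m) (D.χ₂ h) ∧
      β * D.f m u = D.b (D.χ₁ h) (D.y₂ m) := by
    intro m hmP
    have h3 := D.JP h hj m hmP.1 hmP.2
    rw [hm, D.perp_e hmP hp1, hpe] at h3
    have h4 := D.e_ind (α * D.f m u - D.b (D.y₁ m) (D.χ₂ h)) (β * D.f m u - D.b (D.χ₁ h) (D.y₂ m)) (by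
      linear_combination (norm := module) h3)
    exact ⟨sub_eq_zero.1 h4.1, sub_eq_zero.1 h4.2⟩
  have k1 : β = 0 ∨ D.y₂ u = 0 := by
    by_cases hβ : β = 0
    · exact Or.inl hβ
    right
    refine D.b_right _ fun x => ?_
    obtain ⟨m, h3, h4, h5, h6⟩ := D.y_surj x 0
    have h7 := (key m ⟨h3, h4⟩).2
    rw [D.fy ⟨h3, h4⟩ hU, h5, h6, map_zero, map_zero, add_zero] at h7
    exact (mul_eq_zero.1 h7).resolve_left hβ
  have k2 : α = 0 ∨ D.y₁ u = 0 := by
    by_cases hα : α = 0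
    · exact Or.inl hα
    right
    refine D.b_left _ fun x => ?_
    obtain ⟨m, h3, h4, h5, h6⟩ := D.y_surj 0 x
    have h7 := (key m ⟨h3, h4⟩).1
    rw [D.fy ⟨h3, h4⟩ hU, h5, h6] at h7
    simp only [map_zero, LinearMap.zero_apply, zero_add] at h7
    exact (mul_eq_zero.1 h7).resolve_left hα
  have k3 : ¬ (D.y₁ u = 0 ∧ D.y₂ u = 0) := fun h3 =>
    hu1 (D.mem_E_one.2 (D.y_ker u hU.1 hU.2 h3.1 h3.2))
  rcases k1 with rfl | k1
  · have hα : α ≠ 0 := by
      rintro rfl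
      apply hp0
      rw [hpe]
      simp
    exact Or.inl ⟨α, by rw [hpe]; simp, k2.resolve_left hα⟩
  · rcases k2 with rfl | k2
    · exact Or.inr ⟨β, by rw [hpe]; simp, k1⟩
    · exact absurd ⟨k2, k1⟩ k3

end Spl

end Cfsg.Agent.Omega.NOne.SL
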